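import Cfsg.Agent.H730.PairRow
import Cfsg.Agent.H404.VanishBlock
import Cfsg.Agent.H716.VzOut
import Cfsg.Agent.Blocks.Orthogonality
import Cfsg.Agent.Blocks.PPart
import Cfsg.Agent.S0913
import Cfsg.Agent.H687.Gen
import Cfsg.Agent.H419.Row

/-!
# Common characters of two principal blocks (helper735)

* `sum_inter_eq_zero` : if no conjugate of the `p`-element `x` commutes with the `q`-element `y`, then the sum of
  `conj χ(x) * χ(y)` over the common characters `χ` of the principal `p`-block and the principal `q`-block is zero;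
* `Ok S p q` : there is a `VZ` element of `S` with class size divisible by `p` and `q`;
* `Ok.cross` : all automorphisms of `S` are inner, `x` is a `p`-element and `y` a `q`-element, no conjugate of `x`
  commutes with `y`: then `Ok S p q`;
* `Ok.cross_of_not_dvd`, `Ok.cross_of_orders` : corollaries;
* `pairRow_of` : `PairRow S` from a list of bounds for the centralizers of `VZ` elements.
-/

set_option autoImplicit false

namespace Cfsg.Agent.H735.PairCross

open Cfsg Cfsg.Agent.H713 Cfsg.Agent.H730.Pair Subgroup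
open Cfsg.Agent.Characters.Core
open scoped ComplexConjugate

section block

variable {G : Type*} [Group G]

/-- The kernel of a principal block at a `p`-element vanishes off its section. -/
theorem kernel_eq_zero [Fintype G] {p : ℕ} [hp : Fact p.Prime] {M : Ideal AlgInt} (hM : IsPModular p M)
    (s : Finset (IrrCharacter G)) (hs : (s : Set (IrrCharacter G)) = principalBlock M G) {x : G} {k : ℕ}
    (hx : orderOf x = p ^ k) {g z : G} (hg : IsPPart p g z) (hz : ¬ IsConj z x) :
    ∑ χ ∈ s, conj ((χ : G → ℂ) x) * (χ : G → ℂ) g = 0 := by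
  have hB : IsPBlock M (principalBlock M G) :=
    ⟨⟨fun _ => 1, Cfsg.Agent.Blocks.Basic.isIrrCharacter_one⟩, rfl⟩
  have h2 : IsPPart p x x := Cfsg.Agent.Blocks.PPart.isPPart_of_isPGroup ⟨k, hx⟩
  have key := Cfsg.Agent.Blocks.Orthogonality.block_orthogonality hM (principalBlock M G)
    (Cfsg.Agent.S0913.result p M hM _ hB) hg h2 hz
  rw [← hs, finsum_mem_coe_finset] at key
  rw [← key]
  exact Finset.sum_congr rfl fun χ _ => mul_comm _ _

variable [Finite G]

open Classical in
/-- **The identity.** -/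
theorem sum_inter_eq_zero {p q : ℕ} [hp : Fact p.Prime] [hq : Fact q.Prime] {Mp Mq : Ideal AlgInt}
    (hMp : IsPModular p Mp) (hMq : IsPModular q Mq) (s t : Finset (IrrCharacter G))
    (hs : (s : Set (IrrCharacter G)) = principalBlock Mp G)
    (ht : (t : Set (IrrCharacter G)) = principalBlock Mq G) {x y : G} {k l : ℕ} (hx : orderOf x = p ^ k)
    (hy : orderOf y = q ^ l) (h : ∀ a b : G, IsConj a x → IsConj b y → ¬ Commute a b) :
    ∑ χ ∈ s ∩ t, conj ((χ : G → ℂ) x) * (χ : G → ℂ) y = 0 := by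
  have : Fintype G := Fintype.ofFinite G
  have h1 : classInner (fun g : G => ∑ χ ∈ s, conj ((χ : G → ℂ) x) * (χ : G → ℂ) g)
      (fun g : G => ∑ χ ∈ t, conj ((χ : G → ℂ) y) * (χ : G → ℂ) g) = 0 := by
    rw [classInner_def, Finset.sum_eq_zero, mul_zero]
    intro g _
    obtain ⟨a, ha⟩ := Cfsg.Agent.Blocks.PPart.exists_isPPart p g
    obtain ⟨b, hb⟩ := Cfsg.Agent.Blocks.PPart.exists_isPPart q g
    by_cases hax : IsConj a x
    · have hby : ¬ IsConj b y := by
        intro hby
        refine h a b hax hby ?_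
        obtain ⟨i, hi⟩ := (Cfsg.Agent.Blocks.PPart.exists_pow_eq (G := G) p)
        obtain ⟨j, hj⟩ := (Cfsg.Agent.Blocks.PPart.exists_pow_eq (G := G) q)
        rw [← hi g a ha, ← hj g b hb]
        exact ((Commute.refl g).pow_left i).pow_right j
      rw [kernel_eq_zero hMq t ht hy hb hby, map_zero, mul_zero]
    · rw [kernel_eq_zero hMp s hs hx ha hax, zero_mul]
  rw [← h1]
  have e1 : (fun g : G => ∑ χ ∈ s, conj ((χ : G → ℂ) x) * (χ : G → ℂ) g) =
      ∑ χ ∈ s, conj ((χ : G → ℂ) x) • (χ : G → ℂ) := by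
    funext g; simp
  have e2 : (fun g : G => ∑ χ ∈ t, conj ((χ : G → ℂ) y) * (χ : G → ℂ) g) =
      ∑ χ ∈ t, conj ((χ : G → ℂ) y) • (χ : G → ℂ) := by
    funext g; simp
  rw [e1, e2, classInner_sum_left, ← Finset.sum_filter_add_sum_filter_not s (fun χ => χ ∈ t)]
  rw [Finset.filter_mem_eq_inter, Finset.sum_eq_zero (s := s.filter fun χ => χ ∉ t), add_zero]
  · refine Finset.sum_congr (by ext χ; simp only [Finset.mem_inter]) fun χ hχ => ?_
    rw [classInner_sum_right, Finset.sum_eq_single χ]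
    · rw [classInner_smul_left, classInner_smul_right, classInner_irr_self χ.2]
      simp
    · intro ψ _ hne
      rw [classInner_smul_left, classInner_smul_right,
        classInner_irr_ne χ.2 ψ.2 (fun h => hne (Subtype.ext h.symm))]
      simp
    · exact fun h => absurd (Finset.mem_inter.1 hχ).2 h
  · intro χ hχ
    rw [classInner_sum_right, Finset.sum_eq_zero]
    intro ψ hψ
    rw [classInner_smul_left, classInner_smul_right, classInner_irr_ne χ.2 ψ.2 ?_]
    · simp
    · intro h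
      have h3 : χ = ψ := Subtype.ext h
      subst h3
      exact (Finset.mem_filter.1 hχ).2 hψ

end block

/-! ### `Ok` -/

/-- There is a `VZ` element with class size divisible by `p` and `q`. -/
def Ok (S : Type*) [Group S] (p q : ℕ) : Prop :=
  ∃ s : S, VZ S s ∧ p ∣ (centralizer ({s} : Set S)).index ∧ q ∣ (centralizer ({s} : Set S)).index

theorem Ok.symm {S : Type*} [Group S] {p q : ℕ} (h : Ok S p q) : Ok S q p := by
  obtain ⟨s, h1, h2, h3⟩ := h
  exact ⟨s, h1, h3, h2⟩

universe u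

section cross

variable {S : Type u} [Group S] [Finite S]

attribute [local instance] Cfsg.Agent.H687.autAct

open Cfsg.Agent.H687 in
/-- **The general form.** `P` is an `r`-group of automorphisms which covers `Out S` and fixes the classes of the
`p`-element `x` and the `q`-element `y`, and no conjugate of `x` commutes with `y`. -/
theorem Ok.cross_gen [IsSimpleGroup S] (hna : ∃ a b : S, a * b ≠ b * a) {r : ℕ} [hr : Fact r.Prime]
    (P : Subgroup (MulAut S)) (hP : IsPGroup r P)
    (hcov : ∀ β : MulAut S, ∃ φ ∈ P, ∃ s : S, β = MulAut.conj s * φ)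
    {p q : ℕ} [hp : Fact p.Prime] [hq : Fact q.Prime] {x y : S} {k l : ℕ} (hx : orderOf x = p ^ k)
    (hy : orderOf y = q ^ l) (hfx : ∀ φ ∈ P, IsConj (φ x) x) (hfy : ∀ φ ∈ P, IsConj (φ y) y)
    (h : ∀ a b : S, IsConj a x → IsConj b y → ¬ Commute a b) : Ok S p q := by
  classical
  obtain ⟨Mp, hMp⟩ := Blocks.ExistsModular.exists_isPModular hp.1
  obtain ⟨Mq, hMq⟩ := Blocks.ExistsModular.exists_isPModular hq.1
  have : Finite (IrrCharacter S) := Characters.Core.finite_irr
  let _ : Fintype (IrrCharacter S) := Fintype.ofFinite _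
  let _ : MulAction P (IrrCharacter S) := MulAction.compHom _ P.subtype
  have hact : ∀ (φ : P) (χ : IrrCharacter S), φ • χ = (φ : MulAut S) • χ := fun _ _ => rfl
  obtain ⟨F, hF⟩ : ∃ F : IrrCharacter S → ℂ, ∀ χ, F χ =
      if χ ∈ principalBlock Mp S ∧ χ ∈ principalBlock Mq S then
      conj ((χ : S → ℂ) x) * (χ : S → ℂ) y else 0 := ⟨_, fun _ => rfl⟩
  have hsum : ∑ χ, F χ = 0 := by
    have h1 := sum_inter_eq_zero hMp hMq (Set.toFinite (principalBlock Mp S)).toFinset
      (Set.toFinite (principalBlock Mq S)).toFinset (by simp) (by simp) hx hy h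
    rw [← h1]
    have h2 : ∀ χ, F χ = if χ ∈ (Set.toFinite (principalBlock Mp S)).toFinset ∩
        (Set.toFinite (principalBlock Mq S)).toFinset then conj ((χ : S → ℂ) x) * (χ : S → ℂ) y else 0 := by
      intro χ
      rw [hF]
      simp only [Finset.mem_inter, Set.Finite.mem_toFinset]
    rw [Finset.sum_congr rfl fun χ _ => h2 χ, Finset.sum_ite_mem, Finset.univ_inter]
  have hint : ∀ χ, IsIntegral ℤ (F χ) := by
    intro χ
    rw [hF]
    split_ifs
    · refine IsIntegral.mul ?_ (Blocks.Central.isIntegral_irr χ.2 y)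
      have h2 : conj ((χ : S → ℂ) x) = (χ : S → ℂ) x⁻¹ :=
        (Characters.Core.isCharacter_apply_inv (Characters.Core.isIrr_isCharacter χ.2) x).symm
      rw [h2]
      exact Blocks.Central.isIntegral_irr χ.2 _
    · exact isIntegral_zero
  have hinv : ∀ (φ : P) (χ : IrrCharacter S), F (φ • χ) = F χ := by
    intro φ χ
    rw [hF, hF, hact]
    simp only [smul_mem_principalBlock]
    have h3 : ((φ : MulAut S) • χ : IrrCharacter S).1 y = (χ : S → ℂ) y := by
      rw [autAct_apply]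
      exact apply_eq_of_isConj χ (hfy _ (inv_mem φ.2))
    have h4 : ((φ : MulAut S) • χ : IrrCharacter S).1 x = (χ : S → ℂ) x := by
      rw [autAct_apply]
      exact apply_eq_of_isConj χ (hfx _ (inv_mem φ.2))
    rw [h3, h4]
  obtain ⟨z, hz, hsum2⟩ := sum_fixed (p := r) hP F hinv hint
  rw [hsum] at hsum2
  -- the trivial character
  obtain ⟨χ₀, hχ₀⟩ : ∃ χ₀ : IrrCharacter S, χ₀ = ⟨1, Characters.Core.isIrr_one⟩ := ⟨_, rfl⟩
  have h0fix : χ₀ ∈ MulAction.fixedPoints P (IrrCharacter S) := by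
    intro φ
    rw [hact, smul_eq_iff, hχ₀]
    intro s
    rfl
  have h0mem : ∀ {t : ℕ} {M : Ideal AlgInt}, IsPModular t M → χ₀ ∈ principalBlock M S := by
    intro t M hM g
    rw [hχ₀]
    have h5 : centralChar (fun _ : S => (1 : ℂ)) g - centralChar ((⟨1, Characters.Core.isIrr_one⟩ :
        IrrCharacter S) : S → ℂ) g = 0 := sub_self _
    rw [h5]
    exact ⟨0, 1, M.zero_mem, fun h => hM.2.1.ne_top ((Ideal.eq_top_iff_one M).2 h), by simp⟩
  obtain ⟨χ, hχ0, hχfix, hχp, hχq⟩ : ∃ χ : IrrCharacter S, χ ≠ χ₀ ∧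
      χ ∈ MulAction.fixedPoints P (IrrCharacter S) ∧ χ ∈ principalBlock Mp S ∧ χ ∈ principalBlock Mq S := by
    by_contra hcon
    push Not at hcon
    have hterm : ∀ χ : IrrCharacter S,
        (if χ ∈ MulAction.fixedPoints P (IrrCharacter S) then F χ else 0) = if χ = χ₀ then 1 else 0 := by
      intro χ
      by_cases h1 : χ = χ₀
      · rw [h1, if_pos h0fix, if_pos rfl, hF, if_pos ⟨h0mem hMp, h0mem hMq⟩, hχ₀]
        simp
      · rw [if_neg h1]
        by_cases h2 : χ ∈ MulAction.fixedPoints P (IrrCharacter S)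
        · rw [if_pos h2, hF, if_neg]
          rintro ⟨h3, h4⟩
          exact hcon χ h1 h2 h3 h4
        · rw [if_neg h2]
    rw [Finset.sum_congr rfl fun χ _ => hterm χ, Finset.sum_ite_eq' Finset.univ χ₀,
      if_pos (Finset.mem_univ _)] at hsum2
    exact not_isIntegral_inv hr.1.two_le hz hsum2.symm
  have hχ1 : (χ : S → ℂ) 1 ≠ 1 := by
    intro h1
    apply hχ0
    rw [hχ₀]
    exact Subtype.ext (funext (Cfsg.Agent.H716.VzOut.eq_one_of_linear hna χ.2 h1))
  obtain ⟨g, hg⟩ := Cfsg.Agent.H716.VzOut.exists_zero χ.2 hχ1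
  refine ⟨g, ⟨χ, fun β => ?_⟩, ?_, ?_⟩
  · obtain ⟨φ, hφ, s, rfl⟩ := hcov β
    have h1 : (χ : S → ℂ) ((MulAut.conj s * φ) g) = (χ : S → ℂ) (φ g) :=
      apply_eq_of_isConj χ (isConj_iff.2 ⟨s⁻¹, by
        show s⁻¹ * (s * φ g * s⁻¹) * s⁻¹⁻¹ = φ g
        group⟩)
    have h2 : φ • χ = χ := hχfix ⟨φ, hφ⟩
    rw [h1, (smul_eq_iff φ χ).1 h2, hg]
  · by_contra hcon
    exact Cfsg.Agent.H404.VanishBlock.ne_zero_of_principal hMp hχp hcon hg
  · by_contra hcon
    exact Cfsg.Agent.H404.VanishBlock.ne_zero_of_principal hMq hχq hcon hg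

/-- All automorphisms are inner. -/
theorem Ok.cross [IsSimpleGroup S] (hna : ∃ a b : S, a * b ≠ b * a) (hout : ∀ β : MulAut S, ∃ s : S, β = MulAut.conj s)
    {p q : ℕ} [hp : Fact p.Prime] [hq : Fact q.Prime] {x y : S} {k l : ℕ} (hx : orderOf x = p ^ k)
    (hy : orderOf y = q ^ l) (h : ∀ a b : S, IsConj a x → IsConj b y → ¬ Commute a b) : Ok S p q := by
  refine Ok.cross_gen hna (r := 2) ⊥ IsPGroup.of_bot (fun β => ?_) hx hy ?_ ?_ h
  · obtain ⟨s, hs⟩ := hout β
    exact ⟨1, one_mem _, s, by rw [mul_one]; exact hs⟩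
  · intro φ hφ
    rw [mem_bot.1 hφ]
    exact IsConj.refl x
  · intro φ hφ
    rw [mem_bot.1 hφ]
    exact IsConj.refl y

/-- At most two outer automorphisms; the classes of `x` and `y` are invariant. -/
theorem Ok.cross_two [IsSimpleGroup S] (hna : ∃ a b : S, a * b ≠ b * a)
    (hout : (MulAut.conj : S →* MulAut S).range.index ∣ 2)
    {p q : ℕ} [hp : Fact p.Prime] [hq : Fact q.Prime] {x y : S} {k l : ℕ} (hx : orderOf x = p ^ k)
    (hy : orderOf y = q ^ l) (hfx : ∀ φ : MulAut S, IsConj (φ x) x) (hfy : ∀ φ : MulAut S, IsConj (φ y) y)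
    (h : ∀ a b : S, IsConj a x → IsConj b y → ¬ Commute a b) : Ok S p q := by
  have h2 : Fact (Nat.Prime 2) := ⟨Nat.prime_two⟩
  have hfin : Finite (MulAut S) := Finite.of_injective (fun φ : MulAut S => (φ : S → S)) (fun a b h => by
    ext z
    exact congrFun h z)
  obtain ⟨P⟩ := (inferInstance : Nonempty (Sylow 2 (MulAut S)))
  have hIn : ((MulAut.conj : S →* MulAut S).range).Normal := by
    constructor
    rintro _ ⟨s, rfl⟩ β
    refine ⟨β s, ?_⟩
    ext z
    show β s * z * (β s)⁻¹ = β (s * β⁻¹ z * s⁻¹)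
    rw [map_mul, map_mul, map_inv, MulAut.apply_inv_self]
  have htop : (MulAut.conj : S →* MulAut S).range ⊔ (P : Subgroup (MulAut S)) = ⊤ := by
    rw [← Subgroup.index_eq_one]
    have h3 : ((MulAut.conj : S →* MulAut S).range ⊔ (P : Subgroup (MulAut S))).index ∣ 2 :=
      (Subgroup.index_dvd_of_le le_sup_left).trans hout
    have h4 : ((MulAut.conj : S →* MulAut S).range ⊔ (P : Subgroup (MulAut S))).index ∣
        (P : Subgroup (MulAut S)).index := Subgroup.index_dvd_of_le le_sup_right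
    rcases (Nat.dvd_prime Nat.prime_two).1 h3 with h5 | h5
    · exact h5
    · exfalso
      rw [h5] at h4
      exact P.not_dvd_index h4
  refine Ok.cross_gen hna (r := 2) (P : Subgroup (MulAut S)) P.2 (fun β => ?_) hx hy (fun φ _ => hfx φ)
    (fun φ _ => hfy φ) h
  have h3 : β ∈ (MulAut.conj : S →* MulAut S).range ⊔ (P : Subgroup (MulAut S)) := by rw [htop]; trivial
  rw [Subgroup.mem_sup_of_normal_left] at h3
  obtain ⟨_, ⟨s, rfl⟩, φ, hφ, rfl⟩ := h3
  exact ⟨φ, hφ, s, rfl⟩

/-- `q` does not divide the order of the centralizer of the `p`-element `x ≠ 1`. -/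
theorem Ok.cross_of_not_dvd [IsSimpleGroup S] (hna : ∃ a b : S, a * b ≠ b * a)
    (hout : ∀ β : MulAut S, ∃ s : S, β = MulAut.conj s)
    {p q : ℕ} [hp : Fact p.Prime] [hq : Fact q.Prime] {x : S} {k : ℕ} (hx : orderOf x = p ^ k)
    (hqS : q ∣ Nat.card S) (hqx : ¬ q ∣ Nat.card (centralizer ({x} : Set S))) : Ok S p q := by
  obtain ⟨y, hy⟩ := exists_prime_orderOf_dvd_card' (G := S) q hqS
  refine Ok.cross hna hout hx (y := y) (l := 1) (by rw [hy, pow_one]) ?_
  intro a b ha hb hab
  apply hqx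
  obtain ⟨c, rfl⟩ := isConj_iff.1 ha.symm
  have h1 : c⁻¹ * b * c ∈ centralizer ({x} : Set S) := by
    rw [mem_centralizer_singleton_iff]
    have h2 : c * x * c⁻¹ * b = b * (c * x * c⁻¹) := hab
    have h3 : x * (c⁻¹ * b * c) = c⁻¹ * (c * x * c⁻¹ * b) * c := by group
    rw [h3, h2]
    group
  have h2 : orderOf (c⁻¹ * b * c) = q := by
    obtain ⟨d, rfl⟩ := isConj_iff.1 hb.symm
    rw [← hy]
    have h3 : c⁻¹ * (d * y * d⁻¹) * c = MulAut.conj (c⁻¹ * d) y := by
      rw [MulAut.conj_apply]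
      group
    rw [h3]
    exact (MulAut.conj (c⁻¹ * d)).orderOf_eq y
  have h3 := Subgroup.orderOf_dvd_natCard _ h1
  rwa [h2] at h3

end cross

/-! ### the row -/

/-- `PairRow` from a list of bounds `c` for the centralizers of `VZ` elements and a list of exceptional pairs. -/
theorem pairRow_of {S : Type*} [Group S] [Finite S] {n : ℕ} (hn : Nat.card S = n) (ps : List ℕ)
    (hps : ∀ p : ℕ, p.Prime → p ∣ n → p ∈ ps) (cs : List ℕ)
    (hcs : ∀ c ∈ cs, ∃ x : S, VZ S x ∧ Nat.card (centralizer ({x} : Set S)) ∣ c) (ex : List (ℕ × ℕ))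
    (hex : ∀ e ∈ ex, Ok S e.1 e.2)
    (hall : ∀ p ∈ ps, ∀ q ∈ ps, p = q ∨ (p, q) ∈ ex ∨ (q, p) ∈ ex ∨ ∃ c ∈ cs, c * p ∣ n ∧ c * q ∣ n) :
    PairRow S := by
  intro p q hp hq hpq hpS hqS
  rw [hn] at hpS hqS
  rcases hall p (hps p hp hpS) q (hps q hq hqS) with h | h | h | ⟨c, hc, h1, h2⟩
  · exact absurd h hpq
  · exact hex _ h
  · exact (hex _ h).symm
  · obtain ⟨x, hx, hxc⟩ := hcs c hc
    have key : ∀ t : ℕ, c * t ∣ n → t ∣ (centralizer ({x} : Set S)).index := by
      intro t ht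
      have h3 : Nat.card (centralizer ({x} : Set S)) * t ∣
          Nat.card (centralizer ({x} : Set S)) * (centralizer ({x} : Set S)).index := by
        rw [(centralizer ({x} : Set S)).card_mul_index, hn]
        exact (Nat.mul_dvd_mul_right hxc t).trans ht
      exact Nat.dvd_of_mul_dvd_mul_left Nat.card_pos h3
    exact ⟨x, hx, key p h1, key q h2⟩

/-- All automorphisms inner and an isolated `VZ` element: `#C(x) = ℓ ^ a`. -/
theorem pairRow_of_isolated {S : Type u} [Group S] [Finite S] [IsSimpleGroup S] (hna : ∃ a b : S, a * b ≠ b * a)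
    (hout : ∀ β : MulAut S, ∃ s : S, β = MulAut.conj s) {ℓ : ℕ} [hl : Fact ℓ.Prime] {x : S} {k m : ℕ}
    (hx : orderOf x = ℓ ^ k) (hxC : Nat.card (centralizer ({x} : Set S)) ∣ ℓ ^ m) (hvz : VZ S x) : PairRow S := by
  have key : ∀ q : ℕ, q.Prime → q ∣ Nat.card S → q ≠ ℓ → ¬ q ∣ Nat.card (centralizer ({x} : Set S)) := by
    intro q hq _ hql hd
    exact hql ((Nat.prime_dvd_prime_iff_eq hq hl.1).1 (hq.dvd_of_dvd_pow (hd.trans hxC)))
  intro p q hp hq hpq hpS hqS
  have : Fact p.Prime := ⟨hp⟩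
  have : Fact q.Prime := ⟨hq⟩
  by_cases h1 : p = ℓ
  · subst h1
    exact Ok.cross_of_not_dvd hna hout hx hqS (key q hq hqS (Ne.symm hpq))
  · by_cases h2 : q = ℓ
    · subst h2
      exact (Ok.cross_of_not_dvd hna hout hx hpS (key p hp hpS hpq)).symm
    · exact ⟨x, hvz, dvd_index_of_not_dvd hp (k := 1) (by simpa using hpS) (by simpa using key p hp hpS h1),
        dvd_index_of_not_dvd hq (k := 1) (by simpa using hqS) (by simpa using key q hq hqS h2)⟩

end Cfsg.Agent.H735.PairCross
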