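import Cfsg.Agent.H735.PqCount
import Cfsg.Agent.H404.VanishBlock
import Cfsg.Agent.H690.Van
import Cfsg.Agent.H713.Van
import Cfsg.Agent.S4996
import Cfsg.Agent.Lib.PSolvable
import Cfsg.Agent.S4145
import Cfsg.Agent.Characters.Central
import Cfsg.Agent.PLocal.PSolvable

/-!
# Vanishing classes and a normal Sylow subgroup (helper735)

* `le_center_of_forall_irr` : if all irreducible characters of `G` stay irreducible on `C_G(A)`, then `A` is central.
* `pSolvable_of_normal_sylow` : if the Sylow `q`-subgroup is normal and not central and no vanishing class size is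
  divisible by `p * q`, then `G` is `p`-solvable and `q`-solvable.
-/

set_option autoImplicit false

namespace Cfsg.Agent.H735.PqVan

open Subgroup Cfsg Cfsg.Agent.H713 Cfsg.Agent.H735.PqCount

universe u

variable {G : Type u} [Group G]

/-- No vanishing class size is divisible by `p * q`. -/
def HypPQ (p q : ℕ) (G : Type*) [Group G] : Prop :=
  ∀ x : G, Van G x → ¬ p * q ∣ (centralizer ({x} : Set G)).index

theorem HypPQ.symm {p q : ℕ} (h : HypPQ p q G) : HypPQ q p G := fun x hx hd =>
  h x hx (by rwa [mul_comm] at hd)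

theorem HypPQ.not_both {p q : ℕ} (hp : p.Prime) (hq : q.Prime) (hpq : p ≠ q) (h : HypPQ p q G) {x : G}
    (hx : Van G x) (h1 : p ∣ (centralizer ({x} : Set G)).index) :
    ¬ q ∣ (centralizer ({x} : Set G)).index := fun h2 =>
  h x hx (((Nat.coprime_primes hp hq).2 hpq).mul_dvd_of_dvd_of_dvd h1 h2)

/-- **Lemma X**. -/
theorem le_center_of_forall_irr [Finite G] (A : Subgroup G)
    (h : ∀ χ : IrrCharacter G, IsIrrCharacter ↥(centralizer (A : Set G))
      (fun n : ↥(centralizer (A : Set G)) => (χ : G → ℂ) n)) : A ≤ center G := by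
  intro a ha
  rw [mem_center_iff]
  intro g
  by_contra hne
  have hz : a * g * a⁻¹ * g⁻¹ ≠ 1 := by
    intro h1
    apply hne
    have h2 : a * g = g * a := by
      have := mul_inv_eq_one.1 h1
      rwa [mul_inv_eq_iff_eq_mul] at this
    exact h2.symm
  obtain ⟨χ, hχ⟩ := Cfsg.Agent.H690.Van.exists_ne hz
  apply hχ
  have h1 := h χ
  obtain ⟨χ, n, ρ, hρ, rfl⟩ := χ
  have h2 : Representation.IsIrreducible (ρ.comp (centralizer (A : Set G)).subtype) := by
    apply Cfsg.Agent.Characters.Core.isIrreducible_of_isIrrCharacter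
    exact h1
  obtain ⟨c, hc⟩ := Cfsg.Agent.Characters.Central.exists_smul_of_comm
    (ρ.comp (centralizer (A : Set G)).subtype) h2 (ρ a) (fun d => by
      show ρ a * ρ (d : G) = ρ (d : G) * ρ a
      rw [← map_mul, ← map_mul, mem_centralizer_iff.1 d.2 a ha])
  show ρ.character (a * g * a⁻¹ * g⁻¹) = ρ.character 1
  have h3 : ρ (a * g * a⁻¹ * g⁻¹) = ρ 1 := by
    have h4 : ρ a * ρ g = ρ g * ρ a := by
      rw [hc]
      simp
    have h5 : a * g * a⁻¹ * g⁻¹ = (a * g) * (g * a)⁻¹ := by group
    have h6 : ρ (a * g) = ρ (g * a) := by rw [map_mul, map_mul, h4]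
    rw [h5, map_mul, h6, ← map_mul, mul_inv_cancel]
  rw [Representation.character, Representation.character, h3]

/-- The vanishing coset. -/
theorem exists_coset [Finite G] (A : Subgroup G) [A.Normal] (hA : ¬ A ≤ center G) :
    ∃ x : G, ∀ n ∈ centralizer (A : Set G), Van G (n * x) := by
  by_contra hcon
  apply hA
  apply le_center_of_forall_irr
  intro χ
  by_contra h1
  obtain ⟨x, hx⟩ := (Cfsg.Agent.S4996.result (centralizer (A : Set G)) χ).1 h1
  exact hcon ⟨x, fun n hn => ⟨χ, hx ⟨n, hn⟩⟩⟩

theorem not_van_one [Finite G] : ¬ Van G (1 : G) := by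
  rintro ⟨χ, hχ⟩
  exact Cfsg.Agent.Characters.Core.isIrr_apply_one_ne_zero χ.2 hχ

/-- A normal Sylow subgroup is centralised by the elements of class size prime to `q`. -/
theorem mem_centralizer_of_not_dvd [Finite G] {q : ℕ} [Fact q.Prime] (Q : Sylow q G)
    (hQ : (Q : Subgroup G).Normal) {h : G} (hh : ¬ q ∣ (centralizer ({h} : Set G)).index) :
    h ∈ centralizer ((Q : Subgroup G) : Set G) := by
  obtain ⟨Q', hQ'⟩ := Cfsg.Agent.H531.TwoPrimes.exists_sylow_le hh
  have := Sylow.unique_of_normal Q hQ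
  have h1 : Q' = Q := Subsingleton.elim _ _
  subst h1
  rw [mem_centralizer_iff]
  intro u hu
  exact mem_centralizer_singleton_iff.1 (hQ' hu)

theorem isPSolvable_of_normal_sylow [Finite G] {q : ℕ} [hq : Fact q.Prime] (Q : Sylow q G)
    (hQ : (Q : Subgroup G).Normal) : IsPSolvable q G := by
  obtain ⟨n, hn⟩ := IsPGroup.iff_card.1 Q.isPGroup'
  refine Cfsg.Agent.Lib.PSolvable.IsPSolvable_of_quotient q (Q : Subgroup G) (Or.inl ⟨n, hn⟩) ?_
  refine Cfsg.Agent.PLocal.PSolvable.isPSolvable_of_coprime ?_
  have h1 : ¬ q ∣ (Q : Subgroup G).index := Q.not_dvd_index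
  exact ((Nat.Prime.coprime_iff_not_dvd hq.out).2 h1).symm

/-- **Normal Sylow subgroup**. -/
theorem pSolvable_of_normal_sylow [Finite G] {p q : ℕ} [hp : Fact p.Prime] [hq : Fact q.Prime] (hpq : p ≠ q)
    (Q : Sylow q G) (hQ : (Q : Subgroup G).Normal) (hno : HypPQ p q G)
    (hqV : ∃ g : G, q ∣ (centralizer ({g} : Set G)).index) : IsPSolvable p G ∧ IsPSolvable q G := by
  refine ⟨?_, isPSolvable_of_normal_sylow Q hQ⟩
  have hQc : ¬ (Q : Subgroup G) ≤ center G := by
    intro h
    obtain ⟨g, hg⟩ := hqV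
    apply Q.not_dvd_index
    refine hg.trans (index_dvd_of_le ?_)
    intro u hu
    rw [mem_centralizer_singleton_iff]
    exact (mem_center_iff.1 (h hu) g).symm
  set D : Subgroup G := centralizer ((Q : Subgroup G) : Set G) with hD
  obtain ⟨x, hx⟩ := exists_coset (Q : Subgroup G) hQc
  have hxD : x ∉ D := by
    intro h
    have := hx x⁻¹ (inv_mem h)
    rw [inv_mul_cancel] at this
    exact not_van_one this
  have hout : ∀ h : G, h ∉ D → q ∣ (centralizer ({h} : Set G)).index := by
    intro h hh
    by_contra hcon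
    exact hh (mem_centralizer_of_not_dvd Q hQ hcon)
  -- `D` has a normal `p`-complement
  have h1 : HasNormalPComplement p D := by
    refine hnc_of_coset D x fun n hn => ?_
    refine hno.symm.not_both hq.out hp.out hpq.symm (hx n hn) (hout _ fun h => hxD ?_)
    have := mul_mem (inv_mem hn) h
    rwa [inv_mul_cancel_left] at this
  -- `G / D` has a normal `p`-complement
  have h2 : HasNormalPComplement p (G ⧸ D) := by
    refine (Cfsg.Agent.H404.VanishBlock.main p ?_).1
    intro y hy hd
    obtain ⟨g, rfl⟩ := QuotientGroup.mk'_surjective D y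
    have hvan : Van G g := Van.of_surjective (QuotientGroup.mk' D) (QuotientGroup.mk'_surjective D) hy
    have hgD : g ∉ D := by
      intro h
      have : QuotientGroup.mk' D g = 1 := (QuotientGroup.eq_one_iff g).2 h
      rw [this] at hy
      exact not_van_one hy
    have h3 : p ∣ (centralizer ({g} : Set G)).index := by
      refine hd.trans ?_
      have h4 : (centralizer ({g} : Set G)).map (QuotientGroup.mk' D) ≤
          centralizer ({QuotientGroup.mk' D g} : Set (G ⧸ D)) := by
        rintro _ ⟨k, hk, rfl⟩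
        have hk' := mem_centralizer_singleton_iff.1 hk
        rw [mem_centralizer_singleton_iff, ← map_mul, ← map_mul, hk']
      exact (index_dvd_of_le h4).trans (index_map_dvd _ (QuotientGroup.mk'_surjective D))
    exact hno.not_both hp.out hq.out hpq hvan h3 (hout g hgD)
  exact Cfsg.Agent.Lib.PSolvable.IsPSolvable_of_extension p D (Cfsg.Agent.S4145.isPSolvable_of_hnc h1)
    (Cfsg.Agent.S4145.isPSolvable_of_hnc h2)

end Cfsg.Agent.H735.PqVan
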