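import Cfsg.Agent.H735.PairSelf
import Cfsg.Agent.H547.SelfCent.Conway
import Cfsg.Agent.H547.SelfCent.Ru
import Cfsg.Agent.H393.Iso.Co1
import Cfsg.Agent.H393.Iso.Co2
import Cfsg.Agent.H393.Iso.Co3
import Cfsg.Agent.H393.Iso.Ru
import Cfsg.Agent.H704.Spor49.Conway
import Cfsg.Agent.H620.RowSporC
import Cfsg.Agent.H690.Spor.Ru
import Cfsg.Agent.S2069
import Cfsg.Agent.S2070
import Cfsg.Agent.S2071
import Cfsg.Agent.S2077

/-!
# `PairRow` for `Co1`, `Co2`, `Co3`, `Ru` (helper735)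
-/

set_option autoImplicit false

namespace Cfsg.Agent.H735.PairCo

open Cfsg Cfsg.Agent.H620 Cfsg.Agent.H713 Cfsg.Agent.H730.Pair Subgroup Cfsg.Agent.H735.PairCross
open Cfsg.Agent.H408.SporEng Cfsg.Agent.H665.NoPQ Cfsg.Agent.H419.Row Cfsg.Agent.H735.PairSelf
open Cfsg.Agent.H419.LeechFix Cfsg.Agent.H419.LeechIrr

universe u

theorem hasDZ_co2 : HasDZ 23 Spor.Co2 := by
  have hs : IsSimpleGroup Spor.Co2 := Cfsg.Agent.Schreier.CoTwoStab.isSimpleGroup
  have hcard : Nat.card Spor.Co2 = 42305421312000 := Cfsg.Agent.BiChar.Small.card_Co2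
  have hfin : Finite Spor.Co2 := Nat.finite_of_card_ne_zero (by rw [hcard]; norm_num)
  have : Fact (Nat.Prime 23) := ⟨by norm_num⟩
  have hfac : (Nat.card Spor.Co2).factorization 23 = 1 := by
    rw [hcard]; exact factorization_eq_one (by norm_num) (by norm_num)
  obtain ⟨μ, hμ⟩ := irr23 Cfsg.Agent.H419.Spor.Co2.inc Cfsg.Agent.H419.Spor.Co2.inc_injective
    (by rw [hcard]; norm_num) Cfsg.Agent.H419.Spor.Co2.k ⟨Cfsg.Agent.H419.Spor.Co3.y14, fun h => by
      have := Cfsg.Agent.H419.Spor.Co2.order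
      rw [h, orderOf_one] at this
      norm_num at this⟩ Cfsg.Agent.H419.Spor.Co2.inc_k (w := Cfsg.Agent.H419.Spor.Co2.leechW) (fun h => by
        have := congrArg (fun v : leechLattice => (v : GolayPt → ℤ) none) h
        exact absurd this (by decide)) Cfsg.Agent.H419.Spor.Co2.inc_fix
  exact Cfsg.Agent.H713.Spor.Small.hasDZ_of_lchi hfac hμ

theorem hasDZ_co3 : HasDZ 23 Spor.Co3 := by
  obtain ⟨hs, hcard⟩ := Cfsg.Agent.OddHalf.D8.RowCo3.card_of (K := Spor.Co3) ⟨MulEquiv.refl _⟩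
  have hfin : Finite Spor.Co3 := Nat.finite_of_card_ne_zero (by rw [hcard]; norm_num)
  have : Fact (Nat.Prime 23) := ⟨by norm_num⟩
  have hfac : (Nat.card Spor.Co3).factorization 23 = 1 := by
    rw [hcard]; exact factorization_eq_one (by norm_num) (by norm_num)
  obtain ⟨μ, hμ⟩ := irr23 Cfsg.Agent.H419.Spor.Co3.inc Cfsg.Agent.H419.Spor.Co3.inc_injective
    (by rw [hcard]; norm_num) Cfsg.Agent.H419.Spor.Co3.k ⟨Cfsg.Agent.H419.Spor.Co3.y14, fun h => by
      have := Cfsg.Agent.H419.Spor.Co3.order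
      rw [h, orderOf_one] at this
      norm_num at this⟩ Cfsg.Agent.H419.Spor.Co3.inc_k (w := Spor.leechV) (fun h => by
        have := congrArg (fun v : leechLattice => (v : GolayPt → ℤ) none) h
        exact absurd this (by decide)) Cfsg.Agent.H419.Spor.Co3.inc_fix
  exact Cfsg.Agent.H713.Spor.Small.hasDZ_of_lchi hfac hμ

theorem pairRow_co1 {K : Type*} [Group K] (h : Spor.IsoCo1 K) : PairRow K := by
  obtain ⟨e⟩ := h
  have hcard : Nat.card Spor.Co1 = 4157776806543360000 := Cfsg.Agent.S0399.result.2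
  have : IsSimpleGroup Spor.Co1 := Cfsg.Agent.S0399.result.1
  have hfin : Finite Spor.Co1 := Nat.finite_of_card_ne_zero (by rw [hcard]; norm_num)
  exact PairRow.mulEquiv e.symm (row_of_self hcard (by norm_num) (by norm_num) (ℓ := 23) (by norm_num)
    (Self.of_all (by norm_num) (by rw [hcard]; norm_num) fun x hx =>
      Cfsg.Agent.H547.SelfCent.Conway.co1 ⟨MulEquiv.refl _⟩ Cfsg.Agent.H393.Iso.na_co1_model hx)
    Cfsg.Agent.H620.RowSporC.hasDZ_co1 Cfsg.Agent.S2069.result)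

theorem pairRow_co2 {K : Type*} [Group K] (h : Spor.IsoCo2 K) : PairRow K := by
  obtain ⟨e⟩ := h
  have hcard : Nat.card Spor.Co2 = 42305421312000 := Cfsg.Agent.BiChar.Small.card_Co2
  have : IsSimpleGroup Spor.Co2 := Cfsg.Agent.Schreier.CoTwoStab.isSimpleGroup
  have hfin : Finite Spor.Co2 := Nat.finite_of_card_ne_zero (by rw [hcard]; norm_num)
  exact PairRow.mulEquiv e.symm (row_of_self hcard (by norm_num) (by norm_num) (ℓ := 23) (by norm_num)
    (Self.of_all (by norm_num) (by rw [hcard]; norm_num) fun x hx =>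
      Cfsg.Agent.H547.SelfCent.Conway.co2 ⟨MulEquiv.refl _⟩ Cfsg.Agent.H393.Iso.na_co2_model hx)
    hasDZ_co2 Cfsg.Agent.S2070.result)

theorem pairRow_co3 {K : Type*} [Group K] (h : Spor.IsoCo3 K) : PairRow K := by
  obtain ⟨e⟩ := h
  obtain ⟨hs, hcard⟩ := Cfsg.Agent.OddHalf.D8.RowCo3.card_of (K := Spor.Co3) ⟨MulEquiv.refl _⟩
  have hfin : Finite Spor.Co3 := Nat.finite_of_card_ne_zero (by rw [hcard]; norm_num)
  exact PairRow.mulEquiv e.symm (row_of_self hcard (by norm_num) (by norm_num) (ℓ := 23) (by norm_num)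
    (Self.of_all (by norm_num) (by rw [hcard]; norm_num) fun x hx =>
      Cfsg.Agent.H547.SelfCent.Conway.co3 ⟨MulEquiv.refl _⟩ (Cfsg.Agent.H393.Iso.na_co3 ⟨MulEquiv.refl _⟩) hx)
    hasDZ_co3 Cfsg.Agent.S2071.result)

theorem pairRow_ru {K : Type*} [Group K] (h : Spor.IsoRu K) : PairRow K := by
  obtain ⟨e⟩ := h
  have h' : Spor.IsoRu Spor.Ru := ⟨MulEquiv.refl _⟩
  have hcard : Nat.card Spor.Ru = 145926144000 := NotCT.Orders.ru h'
  have : IsSimpleGroup Spor.Ru := Cfsg.Agent.S1627.result.2.2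
  have hfin : Finite Spor.Ru := Nat.finite_of_card_ne_zero (by rw [hcard]; norm_num)
  exact PairRow.mulEquiv e.symm (row_of_self hcard (by norm_num) (by norm_num) (ℓ := 29) (by norm_num)
    (Self.of_all (by norm_num) (by rw [hcard]; norm_num) fun x hx =>
      Cfsg.Agent.H547.SelfCent.Ru.ru h' (Cfsg.Agent.H393.Iso.na_ru h') hx)
    (Cfsg.Agent.H690.Spor.Ru.hasDZ h' (by simp)) Cfsg.Agent.S2077.result)

end Cfsg.Agent.H735.PairCo
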