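import Cfsg.Agent.H735.PairCross
import Cfsg.Agent.H408.SporSelf
import Cfsg.Agent.H695.Spor.RowA
import Cfsg.Agent.H729.PairMathieu
import Cfsg.Agent.H729.M22Deg
import Cfsg.Agent.H568.TriPair
import Cfsg.Agent.H547.SelfCent.Base
import Cfsg.Agent.BpSpor.CoThreeFive
import Cfsg.Agent.H714.SporRows

/-!
# `PairRow` for `M12` and `M22` (helper735)
-/

set_option autoImplicit false

namespace Cfsg.Agent.H735.PairMathieu

open Cfsg Cfsg.Agent.H713 Cfsg.Agent.H730.Pair Subgroup Cfsg.Agent.H735.PairCross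
open Cfsg.Agent.H408.SporEng Cfsg.Agent.H665.NoPQ Cfsg.Agent.H419.Row

universe u

/-- `p` does not divide the order of the centralizer of `x`: class size -/
theorem dvd_index {S : Type*} [Group S] [Finite S] {x : S} {p : ℕ} (hp : p.Prime) (h1 : p ∣ Nat.card S)
    (h2 : ¬ p ∣ Nat.card (centralizer ({x} : Set S))) : p ∣ (centralizer ({x} : Set S)).index :=
  dvd_index_of_not_dvd hp (k := 1) (by rwa [pow_one]) (by rwa [pow_one])

/-- `x`, `y` of prime orders `a ≠ b`, `#C(x) = a`: then `a ∤ #C(y)` -/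
theorem not_dvd_of_self {S : Type*} [Group S] [Finite S] {a b : ℕ} (ha : a.Prime) (hb : b.Prime) (hab : a ≠ b)
    (h : ∀ x : S, orderOf x = a → Nat.card (centralizer ({x} : Set S)) = a) {y : S} {k : ℕ} (hy : orderOf y = b * k) :
    ¬ a ∣ Nat.card (centralizer ({y} : Set S)) := by
  intro hd
  have hf : Fact a.Prime := ⟨ha⟩
  obtain ⟨⟨x, hx⟩, hxo⟩ := exists_prime_orderOf_dvd_card' a hd
  have hx1 : orderOf x = a := by rw [← hxo, Subgroup.orderOf_mk]
  have h1 : y ∈ centralizer ({x} : Set S) := by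
    rw [mem_centralizer_singleton_iff]
    exact (mem_centralizer_singleton_iff.1 hx).symm
  have h2 := Subgroup.orderOf_dvd_natCard _ h1
  rw [h x hx1, hy] at h2
  exact hab ((Nat.prime_dvd_prime_iff_eq hb ha).1 ((dvd_mul_right b k).trans h2)).symm

/-- the elements of prime order `a`, `a² ∤ #S`, are self-centralizing if one is -/
theorem all_of_self {S : Type u} [Group S] [Finite S] {a : ℕ} (ha : a.Prime) (hd : ¬ a * a ∣ Nat.card S)
    (h : Self a S) (x : S) (hx : orderOf x = a) : Nat.card (centralizer ({x} : Set S)) = a := by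
  obtain ⟨y, hy, hc⟩ := h
  rw [← hc]
  exact Cfsg.Agent.H547.SelfCent.card_cent_eq ha hd hx hy

theorem pairRow_m12 {K : Type*} [Group K] (h : Spor.IsoM12 K) : PairRow K := by
  obtain ⟨e⟩ := h
  have hcard := Cfsg.Agent.H714.SporRows.card_m12
  have hfin : Finite Spor.M12 := Nat.finite_of_card_ne_zero (by rw [hcard]; norm_num)
  have h11 : HasDZ 11 Spor.M12 := by
    have : Fact (Nat.Prime 11) := ⟨by norm_num⟩
    refine Cfsg.Agent.H713.Spor.Small.hasDZ_of_two_trans Cfsg.Agent.H419.Spor.M12.Pts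
      Cfsg.Agent.H419.Spor.M12.two_trans ?_
      (by rw [hcard]; exact Cfsg.Agent.H713.factorization_eq_one (by norm_num) (by norm_num)) ?_
    · rw [Nat.card_eq_fintype_card]
      decide +kernel
    · rw [Nat.card_eq_fintype_card]
      decide +kernel
  have hself := all_of_self (S := Spor.M12) (a := 11) (by norm_num) (by rw [hcard]; norm_num) Cfsg.Agent.H408.SporSelf.m12
  have : Fact (Nat.Prime 5) := ⟨by norm_num⟩
  have : Fact (Nat.Prime 11) := ⟨by norm_num⟩
  obtain ⟨x5, hx5⟩ := exists_prime_orderOf_dvd_card' (G := Spor.M12) 5 (by rw [hcard]; norm_num)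
  obtain ⟨x11, hx11⟩ := exists_prime_orderOf_dvd_card' (G := Spor.M12) 11 (by rw [hcard]; norm_num)
  have hc5 := Cfsg.Agent.CpAutCoThreeFive.card_cent_dvd hx5
  have hc11 := hself x11 hx11
  have hv6 := Cfsg.Agent.H419.Spor.M12.vz
  have ho6 := Cfsg.Agent.H419.Spor.M12.x6_order
  have hps : ∀ p : ℕ, p.Prime → p ∣ Nat.card Spor.M12 → p = 2 ∨ p = 3 ∨ p = 5 ∨ p = 11 := by
    intro p hp hd
    rw [hcard, show 95040 = 2 ^ 6 * 3 ^ 3 * 5 * 11 by norm_num] at hd
    rcases (Nat.Prime.dvd_mul hp).1 hd with hd | hd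
    · rcases (Nat.Prime.dvd_mul hp).1 hd with hd | hd
      · rcases (Nat.Prime.dvd_mul hp).1 hd with hd | hd
        · exact Or.inl ((Nat.prime_dvd_prime_iff_eq hp Nat.prime_two).1 (hp.dvd_of_dvd_pow hd))
        · exact Or.inr (Or.inl ((Nat.prime_dvd_prime_iff_eq hp Nat.prime_three).1 (hp.dvd_of_dvd_pow hd)))
      · exact Or.inr (Or.inr (Or.inl ((Nat.prime_dvd_prime_iff_eq hp Nat.prime_five).1 hd)))
    · exact Or.inr (Or.inr (Or.inr ((Nat.prime_dvd_prime_iff_eq hp (by norm_num)).1 hd)))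
  have i5 : ∀ p : ℕ, p = 2 ∨ p = 3 ∨ p = 11 → p ∣ (centralizer ({x5} : Set Spor.M12)).index := by
    rintro p (rfl | rfl | rfl)
    · exact dvd_index_of_not_dvd Nat.prime_two (k := 2) (by rw [hcard]; norm_num) fun hd => by
        have := hd.trans hc5
        norm_num at this
    · exact dvd_index (by norm_num) (by rw [hcard]; norm_num) fun hd => by
        have := hd.trans hc5
        norm_num at this
    · exact dvd_index (by norm_num) (by rw [hcard]; norm_num) fun hd => by
        have := hd.trans hc5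
        norm_num at this
  have i11 : ∀ p : ℕ, p = 2 ∨ p = 3 ∨ p = 5 → p ∣ (centralizer ({x11} : Set Spor.M12)).index := by
    rintro p (rfl | rfl | rfl) <;>
    · refine dvd_index (by norm_num) (by rw [hcard]; norm_num) ?_
      rw [hc11]
      norm_num
  have i6 : ∀ p : ℕ, p = 5 ∨ p = 11 → p ∣ (centralizer ({Cfsg.Agent.H419.Spor.M12.x6} : Set Spor.M12)).index := by
    rintro p (rfl | rfl)
    · refine dvd_index (by norm_num) (by rw [hcard]; norm_num) fun hd => ?_
      obtain ⟨⟨y, hy⟩, hyo⟩ := exists_prime_orderOf_dvd_card' 5 hd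
      have hy1 : orderOf y = 5 := (Subgroup.orderOf_mk y hy).symm.trans hyo
      have h1 : Cfsg.Agent.H419.Spor.M12.x6 ∈ centralizer ({y} : Set Spor.M12) := by
        rw [mem_centralizer_singleton_iff]
        exact (mem_centralizer_singleton_iff.1 hy).symm
      have h2 := Subgroup.orderOf_dvd_natCard _ h1
      rw [ho6] at h2
      have h3 := h2.trans (Cfsg.Agent.CpAutCoThreeFive.card_cent_dvd hy1)
      norm_num at h3
    · exact dvd_index (by norm_num) (by rw [hcard]; norm_num)
        (not_dvd_of_self (a := 11) (b := 2) (k := 3) (by norm_num) (by norm_num) (by norm_num) hself (by rw [ho6]))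
  refine PairRow.mulEquiv e.symm (Cfsg.Agent.H568.TriPair.pairRow_of_three
    (vz_of_dz (by norm_num) Cfsg.Agent.H714.SporRows.hasDZ_five (x := x5) (by rw [hx5]))
    (vz_of_dz (by norm_num) h11 (x := x11) (by rw [hx11])) hv6 ?_ ?_ ?_)
  · intro p hp hd
    rcases hps p hp hd with h | h | h | h
    · exact Or.inl (i5 p (by omega))
    · exact Or.inl (i5 p (by omega))
    · exact Or.inr (i11 p (by omega))
    · exact Or.inl (i5 p (by omega))
  · intro p hp hd
    rcases hps p hp hd with h | h | h | h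
    · exact Or.inl (i5 p (by omega))
    · exact Or.inl (i5 p (by omega))
    · exact Or.inr (i6 p (by omega))
    · exact Or.inl (i5 p (by omega))
  · intro p hp hd
    rcases hps p hp hd with h | h | h | h
    · exact Or.inl (i11 p (by omega))
    · exact Or.inl (i11 p (by omega))
    · exact Or.inl (i11 p (by omega))
    · exact Or.inr (i6 p (by omega))

theorem pairRow_m22 {K : Type*} [Group K] (h : Spor.IsoM22 K) : PairRow K := by
  obtain ⟨e⟩ := h
  have hM : Cfsg.IsM22 Spor.M22 :=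
    ⟨Cfsg.Agent.SporadicA.MathieuRecog.simple_M22, Cfsg.Agent.SporadicA.MathieuRecog.card_M22⟩
  have hcard : Nat.card Spor.M22 = 443520 := hM.2
  have hfin : Finite Spor.M22 := Nat.finite_of_card_ne_zero (by rw [hcard]; norm_num)
  obtain ⟨f, hf⟩ := Cfsg.Agent.H419.Spor.M22.degrees hM
  have h154 : charDegree ((f 6 : IrrCharacter Spor.M22) : Spor.M22 → ℂ) = 154 := hf 6
  have h45 : charDegree ((f 2 : IrrCharacter Spor.M22) : Spor.M22 → ℂ) = 45 := hf 2
  have h7 : HasDZ 7 Spor.M22 := dz_of_dvd (n := 1) (f 6) (by rw [h154]; norm_num)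
    (by rw [hcard]; exact factorization_eq (by norm_num) (m := 63360) (by norm_num) (by norm_num)) (by norm_num)
  have h11 : HasDZ 11 Spor.M22 := dz_of_dvd (n := 1) (f 6) (by rw [h154]; norm_num)
    (by rw [hcard]; exact factorization_eq (by norm_num) (m := 40320) (by norm_num) (by norm_num)) (by norm_num)
  have h5 : HasDZ 5 Spor.M22 := dz_of_dvd (n := 1) (f 2) (by rw [h45]; norm_num)
    (by rw [hcard]; exact factorization_eq (by norm_num) (m := 88704) (by norm_num) (by norm_num)) (by norm_num)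
  have hself := all_of_self (S := Spor.M22) (a := 11) (by norm_num) (by rw [hcard]; norm_num) Cfsg.Agent.H408.SporSelf.m22
  have : Fact (Nat.Prime 11) := ⟨by norm_num⟩
  obtain ⟨x11, hx11⟩ := exists_prime_orderOf_dvd_card' (G := Spor.M22) 11 (by rw [hcard]; norm_num)
  have hc11 := hself x11 hx11
  obtain ⟨x7, hx7, hc7⟩ := Cfsg.Agent.H729.M22Deg.exists_seven
  obtain ⟨x5, hx5, hc5⟩ := Cfsg.Agent.H729.M22Deg.exists_five
  have hle : ∀ {x : Spor.M22} {p : ℕ} {c : ℕ}, 1 < p →
      Nat.card {z : Spor.M22 // ∃ j ∈ Finset.Ico 1 p, z * x = x ^ j * z} ≤ c →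
      Nat.card (centralizer ({x} : Set Spor.M22)) ≤ c := by
    intro x p c hp h
    refine le_trans ?_ h
    refine Nat.card_le_card_of_injective (fun z : centralizer ({x} : Set Spor.M22) =>
      (⟨(z : Spor.M22), 1, Finset.mem_Ico.2 ⟨le_rfl, hp⟩, by
        rw [pow_one]; exact mem_centralizer_singleton_iff.1 z.2⟩ :
        {z : Spor.M22 // ∃ j ∈ Finset.Ico 1 p, z * x = x ^ j * z})) ?_
    intro a b hab
    exact Subtype.ext (congrArg (fun w : {z : Spor.M22 // ∃ j ∈ Finset.Ico 1 p, z * x = x ^ j * z} => (w : Spor.M22)) hab)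
  have hc7' : Nat.card (centralizer ({x7} : Set Spor.M22)) ≤ 21 := hle (by norm_num) hc7
  have hc5' : Nat.card (centralizer ({x5} : Set Spor.M22)) ≤ 20 := hle (by norm_num) hc5
  have hd7 : 7 ∣ Nat.card (centralizer ({x7} : Set Spor.M22)) := by
    rw [← hx7]
    exact Subgroup.orderOf_dvd_natCard _ (mem_centralizer_singleton_iff.2 rfl)
  have hd5 : 5 ∣ Nat.card (centralizer ({x5} : Set Spor.M22)) := by
    rw [← hx5]
    exact Subgroup.orderOf_dvd_natCard _ (mem_centralizer_singleton_iff.2 rfl)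
  have hpos : ∀ x : Spor.M22, 0 < Nat.card (centralizer ({x} : Set Spor.M22)) := fun x => Nat.card_pos
  have hps : ∀ p : ℕ, p.Prime → p ∣ Nat.card Spor.M22 → p = 2 ∨ p = 3 ∨ p = 5 ∨ p = 7 ∨ p = 11 := by
    intro p hp hd
    rw [hcard, show 443520 = 2 ^ 7 * 3 ^ 2 * 5 * 7 * 11 by norm_num] at hd
    rcases (Nat.Prime.dvd_mul hp).1 hd with hd | hd
    · rcases (Nat.Prime.dvd_mul hp).1 hd with hd | hd
      · rcases (Nat.Prime.dvd_mul hp).1 hd with hd | hd
        · rcases (Nat.Prime.dvd_mul hp).1 hd with hd | hd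
          · exact Or.inl ((Nat.prime_dvd_prime_iff_eq hp Nat.prime_two).1 (hp.dvd_of_dvd_pow hd))
          · exact Or.inr (Or.inl ((Nat.prime_dvd_prime_iff_eq hp Nat.prime_three).1 (hp.dvd_of_dvd_pow hd)))
        · exact Or.inr (Or.inr (Or.inl ((Nat.prime_dvd_prime_iff_eq hp Nat.prime_five).1 hd)))
      · exact Or.inr (Or.inr (Or.inr (Or.inl ((Nat.prime_dvd_prime_iff_eq hp (by norm_num)).1 hd))))
    · exact Or.inr (Or.inr (Or.inr (Or.inr ((Nat.prime_dvd_prime_iff_eq hp (by norm_num)).1 hd))))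
  have i11 : ∀ p : ℕ, p = 2 ∨ p = 3 ∨ p = 5 ∨ p = 7 → p ∣ (centralizer ({x11} : Set Spor.M22)).index := by
    rintro p (rfl | rfl | rfl | rfl) <;>
    · refine dvd_index (by norm_num) (by rw [hcard]; norm_num) ?_
      rw [hc11]
      norm_num
  have i7 : ∀ p : ℕ, p = 2 ∨ p = 3 ∨ p = 5 ∨ p = 11 → p ∣ (centralizer ({x7} : Set Spor.M22)).index := by
    rintro p (rfl | rfl | rfl | rfl)
    · refine dvd_index_of_not_dvd Nat.prime_two (k := 7) (by rw [hcard]; norm_num) fun hd => ?_
      have := Nat.le_of_dvd (hpos x7) hd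
      omega
    · refine dvd_index_of_not_dvd Nat.prime_three (k := 2) (by rw [hcard]; norm_num) fun hd => ?_
      have := Nat.le_of_dvd (hpos x7) (Nat.Coprime.mul_dvd_of_dvd_of_dvd (by norm_num) hd hd7)
      omega
    · refine dvd_index (by norm_num) (by rw [hcard]; norm_num) fun hd => ?_
      have := Nat.le_of_dvd (hpos x7) (Nat.Coprime.mul_dvd_of_dvd_of_dvd (by norm_num) hd hd7)
      omega
    · refine dvd_index (by norm_num) (by rw [hcard]; norm_num) fun hd => ?_
      have := Nat.le_of_dvd (hpos x7) (Nat.Coprime.mul_dvd_of_dvd_of_dvd (by norm_num) hd hd7)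
      omega
  have i5 : ∀ p : ℕ, p = 2 ∨ p = 3 ∨ p = 7 ∨ p = 11 → p ∣ (centralizer ({x5} : Set Spor.M22)).index := by
    rintro p (rfl | rfl | rfl | rfl)
    · refine dvd_index_of_not_dvd Nat.prime_two (k := 7) (by rw [hcard]; norm_num) fun hd => ?_
      have := Nat.le_of_dvd (hpos x5) hd
      omega
    · refine dvd_index_of_not_dvd Nat.prime_three (k := 2) (by rw [hcard]; norm_num) fun hd => ?_
      have := Nat.le_of_dvd (hpos x5) (Nat.Coprime.mul_dvd_of_dvd_of_dvd (by norm_num) hd hd5)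
      omega
    · refine dvd_index (by norm_num) (by rw [hcard]; norm_num) fun hd => ?_
      have := Nat.le_of_dvd (hpos x5) (Nat.Coprime.mul_dvd_of_dvd_of_dvd (by norm_num) hd hd5)
      omega
    · refine dvd_index (by norm_num) (by rw [hcard]; norm_num) fun hd => ?_
      have := Nat.le_of_dvd (hpos x5) (Nat.Coprime.mul_dvd_of_dvd_of_dvd (by norm_num) hd hd5)
      omega
  refine PairRow.mulEquiv e.symm (Cfsg.Agent.H568.TriPair.pairRow_of_three
    (vz_of_dz (by norm_num) h5 (x := x5) (by rw [hx5]))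
    (vz_of_dz (by norm_num) h7 (x := x7) (by rw [hx7]))
    (vz_of_dz (by norm_num) h11 (x := x11) (by rw [hx11])) ?_ ?_ ?_)
  · intro p hp hd
    rcases hps p hp hd with h | h | h | h | h
    · exact Or.inl (i5 p (by omega))
    · exact Or.inl (i5 p (by omega))
    · exact Or.inr (i7 p (by omega))
    · exact Or.inl (i5 p (by omega))
    · exact Or.inl (i5 p (by omega))
  · intro p hp hd
    rcases hps p hp hd with h | h | h | h | h
    · exact Or.inl (i5 p (by omega))
    · exact Or.inl (i5 p (by omega))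
    · exact Or.inr (i11 p (by omega))
    · exact Or.inl (i5 p (by omega))
    · exact Or.inl (i5 p (by omega))
  · intro p hp hd
    rcases hps p hp hd with h | h | h | h | h
    · exact Or.inl (i7 p (by omega))
    · exact Or.inl (i7 p (by omega))
    · exact Or.inl (i7 p (by omega))
    · exact Or.inr (i11 p (by omega))
    · exact Or.inl (i7 p (by omega))

end Cfsg.Agent.H735.PairMathieu
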