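import Cfsg.Agent.H735.PairSpor
import Cfsg.Agent.H730.PairAsm

/-!
# `SporRest` (helper735)
-/

set_option autoImplicit false

namespace Cfsg.Agent.H735.PairSpor

open Cfsg

universe u

/-- **The rows of the sporadic groups and the Tits group.** -/
theorem sporRest (hK : ∀ (T : Type) [Group T] [Finite T] [IsSimpleGroup T], IsKnownSimple' T) :
    Cfsg.Agent.H730.PairAsm.SporRest.{u} where
  spor _ _ _ _ h := spor hK h
  tits _ _ _ _ h := tits h

end Cfsg.Agent.H735.PairSpor
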