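import Cfsg.Agent.H735.PairCross
import Cfsg.Agent.H408.SporSelf
import Cfsg.Agent.H695.Spor.RowA
import Cfsg.Agent.S2060
import Cfsg.Agent.S2063
import Cfsg.Agent.S2064
import Cfsg.Agent.S2065
import Cfsg.Agent.S2068
import Cfsg.Agent.S2080
import Cfsg.Agent.H713.Spor.Fi23
import Cfsg.Agent.SporadicA.M11Facts
import Cfsg.Agent.S1703
import Cfsg.Agent.S1697

/-!
# `PairRow` for `M11`, `M23`, `M24`, `J1`, `J4`, `Fi23` (helper735)

`Out = 1` and a self-centralizing `VZ` element of prime order.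
-/

set_option autoImplicit false

namespace Cfsg.Agent.H735.PairSelf

open Cfsg Cfsg.Agent.H713 Cfsg.Agent.H730.Pair Subgroup Cfsg.Agent.H735.PairCross
open Cfsg.Agent.H408.SporEng Cfsg.Agent.H665.NoPQ Cfsg.Agent.H419.Row

universe u

/-- a self-centralizing element of prime order, defect zero, no outer automorphisms -/
theorem row_of_self {S : Type u} [Group S] [IsSimpleGroup S] {n ℓ : ℕ} (hn : Nat.card S = n) (hn0 : n ≠ 0)
    (hnp : ¬ n.Prime) (hl : ℓ.Prime) (hs : Self ℓ S) (hdz : HasDZ ℓ S) (hout : Nat.card (Cfsg.Out S) = 1) :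
    PairRow S := by
  have hfin : Finite S := Nat.finite_of_card_ne_zero (by rw [hn]; exact hn0)
  have hf : Fact ℓ.Prime := ⟨hl⟩
  obtain ⟨x, hx, hxC⟩ := hs
  have hna : ∃ a b : S, a * b ≠ b * a := by
    by_contra hcon
    push Not at hcon
    exact not_comm (G := S) (by rw [hn]; exact hnp) ⟨⟨hcon⟩⟩
  exact pairRow_of_isolated hna (Cfsg.Agent.H419.Row.inner_of_out hout) (x := x) (k := 1) (m := 1)
    (by rw [hx, pow_one]) (by rw [hxC, pow_one]) (vz_of_dz hl hdz (by rw [hx]))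

theorem pairRow_m11 {K : Type*} [Group K] (h : Spor.IsoM11 K) : PairRow K := by
  obtain ⟨e⟩ := h
  have h' : Spor.IsoM11 Spor.M11 := ⟨MulEquiv.refl _⟩
  have hM : Cfsg.IsM11 Spor.M11 := Cfsg.Agent.UGT.End.MEleven.isM11 h'
  have : IsSimpleGroup Spor.M11 := hM.1
  have hfin : Finite Spor.M11 := Nat.finite_of_card_ne_zero (by rw [hM.2]; norm_num)
  obtain ⟨x, -, v, hv⟩ := Cfsg.Agent.SporadicA.M11Facts.exists_caseC hM
  have h3 : HasDZ 5 Spor.M11 := Cfsg.Agent.H620.RowSporA.dz_of_val (n := 1) Nat.prime_five (v 4) (d := 45) (by simpa using hv.degs 4)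
    (by norm_num)
    (by rw [hM.2]; exact factorization_eq Nat.prime_five (m := 1584) (by norm_num) (by norm_num))
  exact PairRow.mulEquiv e.symm (row_of_self hM.2 (by norm_num) (by norm_num) (ℓ := 5) (by norm_num)
    (Self.of_all (by norm_num) (by rw [hM.2]; norm_num) fun x hx =>
      Cfsg.Agent.SporadicA.M11Facts.card_centralizer_five hM hx) h3 Cfsg.Agent.S2060.result)

theorem pairRow_m23 {K : Type*} [Group K] (h : Spor.IsoM23 K) : PairRow K := by
  obtain ⟨e⟩ := h
  have hcard : Nat.card Spor.M23 = 10200960 := Cfsg.Agent.SporadicA.MathieuRecog.card_M23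
  have : IsSimpleGroup Spor.M23 := H729.PairMathieu.simple_M23
  exact PairRow.mulEquiv e.symm (row_of_self hcard (by norm_num) (by norm_num) (ℓ := 23) (by norm_num)
    Cfsg.Agent.H408.SporSelf.m23 Cfsg.Agent.H695.Spor.RowA.hasDZ_m23_23 Cfsg.Agent.S2063.result)

theorem pairRow_m24 {K : Type*} [Group K] (h : Spor.IsoM24 K) : PairRow K := by
  obtain ⟨e⟩ := h
  have hcard : Nat.card M24 = 244823040 := Cfsg.Agent.SporadicA.M24Trans.card_M24
  have : IsSimpleGroup M24 := Cfsg.Agent.S0365.result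
  exact PairRow.mulEquiv e.symm (row_of_self hcard (by norm_num) (by norm_num) (ℓ := 23) (by norm_num)
    Cfsg.Agent.H408.SporSelf.m24 Cfsg.Agent.H620.RowSporA.hasDZ_m24 Cfsg.Agent.S2064.result)

theorem pairRow_j1 {K : Type*} [Group K] (h : Spor.IsoJ1 K) : PairRow K := by
  obtain ⟨e⟩ := h
  have hcard := Cfsg.Agent.H714.SporRows.card_j1
  have : IsSimpleGroup Spor.J1 := Cfsg.Agent.SporadicB.J1.Main.isJ1.1
  exact PairRow.mulEquiv e.symm (row_of_self hcard (by norm_num) (by norm_num) (ℓ := 19) (by norm_num)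
    Cfsg.Agent.H408.SporSelf.j1 Cfsg.Agent.H714.SporRows.hasDZ_nineteen Cfsg.Agent.S2065.result)

theorem pairRow_j4 {K : Type*} [Group K] (h : Spor.IsoJ4 K) : PairRow K := by
  obtain ⟨e⟩ := h
  have hcard : Nat.card Spor.J4 = 86775571046077562880 := Cfsg.Agent.H858.FixJ4.card_J4
  have : IsSimpleGroup Spor.J4 := Cfsg.Agent.S1703.result.1
  exact PairRow.mulEquiv e.symm (row_of_self hcard (by norm_num) (by norm_num) (ℓ := 43) (by norm_num)
    Cfsg.Agent.H408.SporSelf.j4 (Cfsg.Agent.H723.Spor.JFour.dz_big (by simp)) Cfsg.Agent.S2068.result)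

theorem pairRow_fi23 {K : Type*} [Group K] (h : Spor.IsoFi23 K) : PairRow K := by
  obtain ⟨e⟩ := h
  have hcard : Nat.card Spor.Fi23 = 4089470473293004800 := Cfsg.Agent.Fischer.Fi23Simple.card_Fi23
  have : IsSimpleGroup Spor.Fi23 := Cfsg.Agent.S1697.result.1
  exact PairRow.mulEquiv e.symm (row_of_self hcard (by norm_num) (by norm_num) (ℓ := 23) (by norm_num)
    Cfsg.Agent.H408.SporSelf.fi23 Cfsg.Agent.H713.Spor.Fi23.hasDZ_23 Cfsg.Agent.S2080.result)

end Cfsg.Agent.H735.PairSelf
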