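import Cfsg.Agent.H735.PairCross
import Cfsg.Agent.H710.Spor.Ly
import Cfsg.Agent.H723.Spor.ThMix
import Cfsg.Agent.S2083
import Cfsg.Agent.H419.Count

/-!
# `PairRow` for `Ly` and `Th` (helper735)

One `VZ` element of order 24 resp. 20 which generates its centralizer.
-/

set_option autoImplicit false

namespace Cfsg.Agent.H735.PairThLy

open Cfsg Cfsg.Agent.H713 Cfsg.Agent.H730.Pair Subgroup Cfsg.Agent.H735.PairCross

universe u

/-- one `VZ` element generating its centralizer -/
theorem pairRow_of_order {S : Type*} [Group S] [Finite S] {n N : ℕ} (hN : Nat.card S = N) {x : S} (hx : orderOf x = n)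
    (hc : Nat.card (centralizer ({x} : Set S)) ≤ n) (hv : VZ S x)
    (h : ∀ p : ℕ, p.Prime → p ∣ n → ∃ k : ℕ, p ^ k ∣ N ∧ ¬ p ^ k ∣ n) : PairRow S := by
  have hcn : Nat.card (centralizer ({x} : Set S)) = n := by
    refine le_antisymm hc ?_
    have h1 : x ∈ centralizer ({x} : Set S) := mem_centralizer_singleton_iff.2 rfl
    have h2 := Subgroup.orderOf_dvd_natCard _ h1
    rw [hx] at h2
    exact Nat.le_of_dvd Nat.card_pos h2
  have key : ∀ p : ℕ, p.Prime → p ∣ Nat.card S → p ∣ (centralizer ({x} : Set S)).index := by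
    intro p hp hpS
    by_cases hpn : p ∣ n
    · obtain ⟨k, h1, h2⟩ := h p hp hpn
      exact dvd_index_of_not_dvd hp (by rw [hN]; exact h1) (by rw [hcn]; exact h2)
    · exact dvd_index_of_not_dvd hp (k := 1) (by rwa [pow_one]) (by rwa [pow_one, hcn])
  exact fun p q hp hq _ hpS hqS => ⟨x, hv, key p hp hpS, key q hq hqS⟩

theorem pairRow_ly {K : Type*} [Group K] (h : Spor.IsoLy K) : PairRow K := by
  obtain ⟨e⟩ := h
  have hfin : Finite Cfsg.Spor.Ly := Cfsg.Agent.Ly.Setup.finite_ly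
  have hcard : Nat.card Cfsg.Spor.Ly = 51765179004000000 := Cfsg.Agent.Ly.Setup.card_ly
  obtain ⟨L⟩ := Cfsg.Agent.TypeM.FactsLy.exists_mt_ly
  obtain ⟨y, hy, hy'⟩ := Cfsg.Agent.H710.Spor.Ly.exists24 L
  have hc := Cfsg.Agent.H710.Spor.Ly.card_classes
  have hv : VZ Cfsg.Spor.Ly y := Cfsg.Agent.H710.VanCount.vz_of_card_inner y (by omega) Cfsg.Agent.TypeM.OutLyFin.inner_ly
  refine PairRow.mulEquiv e.symm (pairRow_of_order hcard hy hy' hv fun p hp hd => ?_)
  rw [show 24 = 2 ^ 3 * 3 by norm_num] at hd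
  rcases (Nat.Prime.dvd_mul hp).1 hd with hd | hd
  · rw [(Nat.prime_dvd_prime_iff_eq hp Nat.prime_two).1 (hp.dvd_of_dvd_pow hd)]
    exact ⟨8, by norm_num, by norm_num⟩
  · rw [(Nat.prime_dvd_prime_iff_eq hp Nat.prime_three).1 hd]
    exact ⟨2, by norm_num, by norm_num⟩

theorem pairRow_th {K : Type*} [Group K] (h : Spor.IsoTh K) : PairRow K := by
  obtain ⟨e⟩ := h
  have hcard := Cfsg.Agent.H723.Spor.Th.card_th
  have hfin : Finite Spor.Th := Nat.finite_of_card_ne_zero (by rw [hcard]; norm_num)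
  have hctx := Cfsg.Agent.KFacts.Th.Main.ctx
  obtain ⟨f, F⟩ := Cfsg.Agent.CpAutTh.Local.exists_epi hctx
  have ho20 := Cfsg.Agent.H723.Spor.ThMix.o20 hctx F
  have hle := Cfsg.Agent.H723.Spor.ThMix.card_le hctx F
  have hv : VZ Spor.Th (Cfsg.Agent.Th.Word.ev Cfsg.Agent.Th.IndexUpper.gTh Cfsg.Agent.H723.Spor.ThMix.W20) := by
    have hvan : Van Spor.Th (Cfsg.Agent.Th.Word.ev Cfsg.Agent.Th.IndexUpper.gTh
        Cfsg.Agent.H723.Spor.ThMix.W20) := by
      refine H419.Count.van_of_orders {1, 2, 3, 4, 6, 8, 12, 24, 7, 14, 28, 5, 10, 15, 30, 9, 18, 20, 13, 19, 31} ?_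
        (lt_of_le_of_lt hle (by decide))
      intro n hn
      have h24 : ∀ n, n ∣ 24 → ∃ g : Spor.Th, orderOf g = n := fun n hn =>
        H419.Count.exists_order_of_dvd (x := _) (by rw [Cfsg.Agent.H723.Spor.ThMix.o24 hctx F]; exact hn)
      have h28 : ∀ n, n ∣ 28 → ∃ g : Spor.Th, orderOf g = n := fun n hn =>
        H419.Count.exists_order_of_dvd (x := _) (by rw [Cfsg.Agent.H723.Spor.ThMix.o28 hctx F]; exact hn)
      have h30 : ∀ n, n ∣ 30 → ∃ g : Spor.Th, orderOf g = n := fun n hn =>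
        H419.Count.exists_order_of_dvd (x := _) (by rw [Cfsg.Agent.H723.Spor.ThMix.o30 hctx F]; exact hn)
      have h18 : ∀ n, n ∣ 18 → ∃ g : Spor.Th, orderOf g = n := fun n hn =>
        H419.Count.exists_order_of_dvd (x := _) (by rw [Cfsg.Agent.H723.Spor.ThMix.o18 hctx F]; exact hn)
      have hp : ∀ p : ℕ, p.Prime → p ∣ 90745943887872000 → ∃ g : Spor.Th, orderOf g = p := by
        intro p hp hd
        have : Fact p.Prime := ⟨hp⟩
        exact exists_prime_orderOf_dvd_card' p (by rw [hcard]; exact hd)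
      simp only [Finset.mem_insert, Finset.mem_singleton] at hn
      rcases hn with rfl | rfl | rfl | rfl | rfl | rfl | rfl | rfl | rfl | rfl | rfl | rfl | rfl | rfl | rfl | rfl |
        rfl | rfl | rfl | rfl | rfl
      · exact h24 _ (by norm_num)
      · exact h24 _ (by norm_num)
      · exact h24 _ (by norm_num)
      · exact h24 _ (by norm_num)
      · exact h24 _ (by norm_num)
      · exact h24 _ (by norm_num)
      · exact h24 _ (by norm_num)
      · exact h24 _ (by norm_num)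
      · exact h28 _ (by norm_num)
      · exact h28 _ (by norm_num)
      · exact h28 _ (by norm_num)
      · exact h30 _ (by norm_num)
      · exact h30 _ (by norm_num)
      · exact h30 _ (by norm_num)
      · exact h30 _ (by norm_num)
      · exact h18 _ (by norm_num)
      · exact h18 _ (by norm_num)
      · exact ⟨_, ho20⟩
      · exact hp _ (by norm_num) (by norm_num)
      · exact hp _ (by norm_num) (by norm_num)
      · exact hp _ (by norm_num) (by norm_num)
    exact H419.Count.vz_of_inner hvan (H419.Row.inner_of_out Cfsg.Agent.S2083.result)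
  refine PairRow.mulEquiv e.symm (pairRow_of_order hcard ho20 hle hv fun p hp hd => ?_)
  rw [show 20 = 2 ^ 2 * 5 by norm_num] at hd
  rcases (Nat.Prime.dvd_mul hp).1 hd with hd | hd
  · rw [(Nat.prime_dvd_prime_iff_eq hp Nat.prime_two).1 (hp.dvd_of_dvd_pow hd)]
    exact ⟨3, by norm_num, by norm_num⟩
  · rw [(Nat.prime_dvd_prime_iff_eq hp Nat.prime_five).1 hd]
    exact ⟨2, by norm_num, by norm_num⟩

end Cfsg.Agent.H735.PairThLy
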