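import Cfsg.Agent.H735.PairSelf
import Cfsg.Agent.H735.PairMathieu
import Cfsg.Agent.H735.PairCo
import Cfsg.Agent.H735.PairThLy
import Cfsg.Agent.H759.Pair.Tits
import Cfsg.Agent.H759.Pair.Suz
import Cfsg.Agent.H680.PairHe
import Cfsg.Agent.H680.PairON
import Cfsg.Agent.H287.Pair.HN
import Cfsg.Agent.H287.Pair.HS
import Cfsg.Agent.H728.PairFi24
import Cfsg.Agent.H568.PairRowM
import Cfsg.Agent.H904.PR.JJ
import Cfsg.Agent.H904.PR.Fi22
import Cfsg.Agent.H817.PairMcL
import Cfsg.Agent.H291.PairRowB

/-!
# `PairRow` for the sporadic groups and the Tits group (helper735)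
-/

set_option autoImplicit false

namespace Cfsg.Agent.H735.PairSpor

open Cfsg Cfsg.Agent.H730.Pair

/-- **The sporadic rows.** -/
theorem spor (hK : ∀ (T : Type) [Group T] [Finite T] [IsSimpleGroup T], IsKnownSimple' T) {K : Type*} [Group K]
    (h : IsSporadicGroup K) : PairRow K := by
  rcases h with h | h | h | h | h | h | h | h | h | h | h | h | h | h | h | h | h | h | h | h | h | h | h | h | h | h
  · exact PairSelf.pairRow_m11 h
  · exact PairMathieu.pairRow_m12 h
  · exact PairMathieu.pairRow_m22 h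
  · exact PairSelf.pairRow_m23 h
  · exact PairSelf.pairRow_m24 h
  · exact PairSelf.pairRow_j1 h
  · exact H904.PR.JTwo.pairRow h
  · exact H904.PR.JThree.pairRow h
  · exact PairSelf.pairRow_j4 h
  · exact PairCo.pairRow_co1 h
  · exact PairCo.pairRow_co2 h
  · exact PairCo.pairRow_co3 h
  · exact H817.PairMcL.pairRow h
  · exact H287.Pair.HS.pairRow h
  · exact H759.Pair.Suz.pairRow h
  · exact H680.PairHe.pairRow h
  · exact PairCo.pairRow_ru h
  · exact H680.PairON.pairRow h
  · exact PairThLy.pairRow_ly h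
  · exact H904.PR.Fi22.pairRow h
  · exact PairSelf.pairRow_fi23 h
  · exact H728.PairFi24.pairRow h
  · exact H287.Pair.HN.pairRow h
  · exact PairThLy.pairRow_th h
  · exact H291.PairRowB.pairRow_of hK h
  · exact H568.PairRowM.pairRow_of hK h

/-- **The Tits group.** -/
theorem tits {K : Type*} [Group K] (h : Lie.IsoTits K) : PairRow K := H759.Pair.Tits.pairRow h

end Cfsg.Agent.H735.PairSpor
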