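import Cfsg.Agent.H735.PqEnd
import Cfsg.Agent.H730.PairRed

/-!
# The assembly of S4939 (helper735)

`s4939_of` : S4939 from the simple rows of S4938 (`H730.PairRed.Rows`) and S4307.
-/

set_option autoImplicit false

namespace Cfsg.Agent.H735.PqAsm

open Cfsg

universe u

/-- The statement of S4307 in one universe. -/
def StS4307 : Prop :=
  ∀ {G : Type u} [Group G] [Finite G] (p q : ℕ), p.Prime → q.Prime → p ≠ q →
    (∃ x : G, p ∣ (Subgroup.centralizer ({x} : Set G)).index) →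
    (∃ x : G, q ∣ (Subgroup.centralizer ({x} : Set G)).index) →
    (∀ x : G, ¬ p * q ∣ (Subgroup.centralizer ({x} : Set G)).index) →
    (∀ P : Sylow p G, IsMulCommutative (P : Subgroup G)) ∧ (∀ Q : Sylow q G, IsMulCommutative (Q : Subgroup G)) ∧
    ∃ K L : Subgroup G, K.Normal ∧ L.Normal ∧ K ≤ L ∧ ¬ p ∣ Nat.card K ∧ ¬ q ∣ Nat.card K ∧ ¬ p ∣ L.index ∧
      ¬ q ∣ L.index ∧ ∀ r : ℕ, r.Prime → r ∣ K.relIndex L → r = p ∨ r = q

/-- **S4939 from `Rows` and S4307.** -/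
theorem s4939_of {G : Type u} [Group G] [Finite G] (N : Subgroup G) [N.Normal] (hNmin : ∀ K : Subgroup G, K.Normal → K ≤ N → K = ⊥ ∨ K = N)
    (hNna : ¬ IsMulCommutative N) (p q : ℕ) (hp : p.Prime) (hq : q.Prime) (hpq : p ≠ q)
    (hpV : ∃ g : G, p ∣ (Subgroup.centralizer ({g} : Set G)).index) (hqV : ∃ g : G, q ∣ (Subgroup.centralizer ({g} : Set G)).index)
    (hno : ∀ g : G, (∃ χ : Cfsg.IrrCharacter G, (χ : G → ℂ) g = 0) → ¬ (p * q ∣ (Subgroup.centralizer ({g} : Set G)).index))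
    (H : Cfsg.Agent.H730.PairRed.Rows.{u})
    (S4307 : StS4307.{u}) :
    Cfsg.IsPSolvable p G ∧ Cfsg.IsPSolvable q G := by
  have hpf : Fact p.Prime := ⟨hp⟩
  have hqf : Fact q.Prime := ⟨hq⟩
  have hna : ¬ ∀ x ∈ N, ∀ y ∈ N, Commute x y := fun h => hNna ⟨⟨fun a b => Subtype.ext (h a a.2 b b.2)⟩⟩
  exact Cfsg.Agent.H735.PqEnd.main hpq N hNmin hNna hno hpV hqV
    (fun hF h1 h2 => (Cfsg.Agent.H730.PairRed.s4938 H hF).2 p q hp hq hpq h1 h2)
    (fun r hr hd => Cfsg.Agent.H730.PairRed.strong_one H N hNmin hna hr hd)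
    (fun h1 h2 h3 => (S4307 p q hp hq hpq h1 h2 h3).2.2)

end Cfsg.Agent.H735.PqAsm
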