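import Cfsg.Agent.H531.TwoPrimes
import Cfsg.Agent.Lib.GoldschmidtFusion
import Cfsg.Prelude.Def_Transfer

/-!
# Counting lemmas for class sizes prime to `p` (helper735)

* `hnc_of_coset` : if all elements of a coset `D x` of a normal subgroup `D` have class size prime to `p`,
  then `D` has a normal `p`-complement.
* `le_of_not_dvd_index` : a normal subgroup of index prime to `p` contains all Sylow `p`-subgroups.
* `commute_of_forall` : if `C` is normal of index prime to `p` and all elements of `C` have class size prime to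
  `p`, then the Sylow `p`-subgroups of `G` centralise `C`.
-/

set_option autoImplicit false

namespace Cfsg.Agent.H735.PqCount

open Subgroup Cfsg.Agent.H531.TwoPrimes
open scoped Pointwise

variable {G : Type*} [Group G]

theorem relIndex_dvd [Finite G] (H D : Subgroup G) [D.Normal] : H.relIndex D ∣ H.index :=
  Cfsg.Agent.Lib.GoldschmidtFusion.relIndex_dvd_index_of_normal_right H D

/-- A subgroup of index prime to `p` contains a Sylow `p`-subgroup of every normal subgroup. -/
theorem exists_sylow_commute [Finite G] {p : ℕ} [Fact p.Prime] (D : Subgroup G) [D.Normal] {h : G}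
    (hh : ¬ p ∣ (centralizer ({h} : Set G)).index) : ∃ R : Sylow p D, ∀ r ∈ R, (r : G) * h = h * r := by
  have h1 : ¬ p ∣ ((centralizer ({h} : Set G)).subgroupOf D).index := fun hd =>
    hh (hd.trans (relIndex_dvd _ D))
  obtain ⟨R, hR⟩ := exists_sylow_le h1
  refine ⟨R, fun r hr => ?_⟩
  have := hR hr
  rw [mem_subgroupOf, mem_centralizer_singleton_iff] at this
  exact this

/-- **Counting in a coset.** -/
theorem normalizer_le_centralizer_of_coset [Finite G] {p : ℕ} [Fact p.Prime] (D : Subgroup G) [D.Normal] (x : G)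
    (h : ∀ n ∈ D, ¬ p ∣ (centralizer ({n * x} : Set G)).index) (R : Sylow p D) :
    normalizer ((R : Subgroup D) : Set D) ≤ centralizer ((R : Subgroup D) : Set D) := by
  classical
  have hex : ∀ n : D, ∃ g : D, ∀ r ∈ R, ((g * r * g⁻¹ : D) : G) * ((n : G) * x) = ((n : G) * x) * ((g * r * g⁻¹ : D) : G) := by
    intro n
    obtain ⟨R', hR'⟩ := exists_sylow_commute D (h n n.2)
    obtain ⟨g, hg⟩ := MulAction.exists_smul_eq D R R'
    refine ⟨g, fun r hr => hR' _ ?_⟩
    rw [← hg]
    change g * r * g⁻¹ ∈ (MulAut.conj g • (R : Subgroup D) : Subgroup D)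
    rw [Subgroup.mem_pointwise_smul_iff_inv_smul_mem]
    have hr2 : r ∈ (R : Subgroup D) := hr
    simpa [MulAut.smul_def, mul_assoc] using hr2
  choose g hg using hex
  -- the elements `(g n)⁻¹ n x (g n)`
  have hconj : ∀ (n m : D), m ∈ normalizer ((R : Subgroup D) : Set D) → ∀ r ∈ R,
      (r : G) * (((g n * m : D) : G)⁻¹ * ((n : G) * x) * ((g n * m : D) : G)) =
        (((g n * m : D) : G)⁻¹ * ((n : G) * x) * ((g n * m : D) : G)) * r := by
    intro n m hm r hr
    have h1 : m * r * m⁻¹ ∈ R := (mem_normalizer_iff.1 hm r).1 hr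
    have h2 := hg n _ h1
    have h3 : ((g n * (m * r * m⁻¹) * (g n)⁻¹ : D) : G) =
        ((g n * m : D) : G) * r * ((g n * m : D) : G)⁻¹ := by
      push_cast
      group
    rw [h3] at h2
    generalize ((g n * m : D) : G) = a at h2 ⊢
    generalize ((n : G) * x) = y at h2 ⊢
    calc (r : G) * (a⁻¹ * y * a) = a⁻¹ * (a * r * a⁻¹ * y) * a := by group
      _ = a⁻¹ * (y * (a * r * a⁻¹)) * a := by rw [h2]
      _ = (a⁻¹ * y * a) * r := by group
  -- base element
  set h0 : G := ((g 1 * 1 : D) : G)⁻¹ * (((1 : D) : G) * x) * ((g 1 * 1 : D) : G) with hh0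
  have hmem : ∀ (n m : D), (((g n * m : D) : G)⁻¹ * ((n : G) * x) * ((g n * m : D) : G)) * h0⁻¹ ∈ D := by
    intro n m
    have hDn : D.Normal := inferInstance
    have key : ∀ a n : D, ∃ d : D, (a : G)⁻¹ * ((n : G) * x) * a = d * x := by
      intro a n
      refine ⟨⟨(a : G)⁻¹ * n * (x * a * x⁻¹), ?_⟩, by simp [mul_assoc]⟩
      exact mul_mem (mul_mem (inv_mem a.2) n.2) (hDn.conj_mem _ a.2 x)
    obtain ⟨d, hd⟩ := key (g n * m) n
    obtain ⟨d0, hd0⟩ := key (g 1 * 1) 1
    rw [hh0, hd, hd0]
    have : (d : G) * x * ((d0 : G) * x)⁻¹ = ((d * d0⁻¹ : D) : G) := by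
      push_cast
      group
    rw [this]
    exact SetLike.coe_mem _
  have hcen : ∀ (n m : D) (hm : m ∈ normalizer ((R : Subgroup D) : Set D)),
      (⟨_, hmem n m⟩ : D) ∈ centralizer ((R : Subgroup D) : Set D) := by
    intro n m hm
    rw [mem_centralizer_iff]
    intro r hr
    apply Subtype.ext
    have e1 := hconj n m hm r hr
    have e2 : (r : G) * h0 = h0 * r := hconj 1 1 (one_mem _) r hr
    push_cast
    generalize (((g n * m : D) : G)⁻¹ * ((n : G) * x) * ((g n * m : D) : G)) = y at e1 ⊢
    have e3 : (r : G) * h0⁻¹ = h0⁻¹ * r := by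
      rw [eq_inv_mul_iff_mul_eq, ← mul_assoc, ← e2, mul_inv_cancel_right]
    calc (r : G) * (y * h0⁻¹) = (r * y) * h0⁻¹ := by group
      _ = y * (r * h0⁻¹) := by rw [e1]; group
      _ = y * h0⁻¹ * r := by rw [e3]; group
  let N := normalizer ((R : Subgroup D) : Set D)
  let C := centralizer ((R : Subgroup D) : Set D)
  have hle : Nat.card (D × N) ≤ Nat.card (D × C) := by
    refine Nat.card_le_card_of_injective
      (fun y : D × N => (g y.1 * (y.2 : D), (⟨⟨_, hmem y.1 y.2⟩, hcen y.1 y.2 y.2.2⟩ : C))) ?_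
    rintro ⟨n, m⟩ ⟨n', m'⟩ he
    simp only [Prod.mk.injEq, Subtype.mk.injEq] at he
    obtain ⟨e1, e2⟩ := he
    rw [e1] at e2
    have e3 : (n : G) = n' := by simpa using e2
    have e4 : n = n' := Subtype.ext e3
    subst e4
    have : (m : D) = m' := mul_left_cancel e1
    rw [Subtype.ext this]
  rw [Nat.card_prod, Nat.card_prod] at hle
  have hle2 : Nat.card N ≤ Nat.card C := Nat.le_of_mul_le_mul_left hle Nat.card_pos
  have hCN : C ≤ N := centralizer_le_normalizer _
  have heq : C = N := Subgroup.eq_of_le_of_card_ge hCN hle2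
  exact heq.ge

/-- **Coset lemma**: if all elements of `D x` have class size prime to `p`, then `D` has a normal
`p`-complement. -/
theorem hnc_of_coset [Finite G] {p : ℕ} [Fact p.Prime] (D : Subgroup G) [D.Normal] (x : G)
    (h : ∀ n ∈ D, ¬ p ∣ (centralizer ({n * x} : Set G)).index) : Cfsg.HasNormalPComplement p D := by
  obtain ⟨R⟩ : Nonempty (Sylow p D) := inferInstance
  exact ⟨R, _, inferInstance, MonoidHom.ker_transferSylow_isComplement' R
    (normalizer_le_centralizer_of_coset D x h R)⟩

/-- A normal subgroup of index prime to `p` contains the Sylow `p`-subgroups. -/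
theorem le_of_not_dvd_index [Finite G] {p : ℕ} [hp : Fact p.Prime] (C : Subgroup G) [C.Normal]
    (h : ¬ p ∣ C.index) (Q : Sylow p G) : (Q : Subgroup G) ≤ C := by
  intro u hu
  have h1 : IsPGroup p ((Q : Subgroup G).map (QuotientGroup.mk' C)) := Q.isPGroup'.map _
  obtain ⟨n, hn⟩ := IsPGroup.iff_card.1 h1
  have h2 : Nat.card ((Q : Subgroup G).map (QuotientGroup.mk' C)) ∣ C.index :=
    Subgroup.card_subgroup_dvd_card _
  rw [hn] at h2
  have h3 : n = 0 := by
    by_contra h0
    exact h ((dvd_pow_self p h0).trans h2)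
  rw [h3, pow_zero, Subgroup.card_eq_one] at hn
  have h4 : QuotientGroup.mk' C u ∈ (Q : Subgroup G).map (QuotientGroup.mk' C) := ⟨u, hu, rfl⟩
  rw [hn, mem_bot] at h4
  exact (QuotientGroup.eq_one_iff u).1 h4

/-- If all elements of a group have class size prime to `p`, the Sylow `p`-subgroups are central. -/
theorem le_center_of_forall [Finite G] {p : ℕ} [Fact p.Prime]
    (h : ∀ z : G, ¬ p ∣ (centralizer ({z} : Set G)).index) (Q : Sylow p G) : (Q : Subgroup G) ≤ center G := by
  have h1 : ∀ z : G, ∃ g : G, g * z * g⁻¹ ∈ centralizer ((Q : Subgroup G) : Set G) := fun z =>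
    conj_mem_centralizer Q (h z)
  have h2 : centralizer ((Q : Subgroup G) : Set G) = ⊤ := by
    by_contra hne
    have h3 := Cfsg.Agent.H531.Cover.card_conj_mul_le (centralizer ((Q : Subgroup G) : Set G))
    have h4 : Cfsg.Agent.H531.Cover.conjInto (centralizer ((Q : Subgroup G) : Set G)) = Set.univ :=
      Set.eq_univ_of_forall h1
    rw [h4, Nat.card_coe_set_eq, Set.ncard_univ] at h3
    have h5 := Nat.le_of_mul_le_mul_left h3 Nat.card_pos
    have h6 : centralizer ((Q : Subgroup G) : Set G) =
        normalizer ((centralizer ((Q : Subgroup G) : Set G) : Subgroup G) : Set G) :=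
      Subgroup.eq_of_le_of_card_ge le_normalizer h5
    -- now `G` has a normal `p`-complement; count once more
    obtain ⟨R, hR⟩ : ∃ R : Subgroup G, R = centralizer ((Q : Subgroup G) : Set G) := ⟨_, rfl⟩
    rw [← hR] at hne h1
    -- conjugates of a proper subgroup do not cover
    have h7 : Nat.card G ≤ (R.index) * (Nat.card R - 1) + 1 := by
      classical
      have : Fintype G := Fintype.ofFinite G
      have h8 : ∀ z : G, z ≠ 1 → ∃ y : (G ⧸ R) × {r : R // r ≠ 1}, (y.1.out : G) * (y.2 : R) * (y.1.out : G)⁻¹ = z := by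
        intro z hz
        obtain ⟨g, hg⟩ := h1 z
        obtain ⟨r, hr⟩ : ∃ r : R, ((g⁻¹ : G) : G ⧸ R).out = g⁻¹ * r := by
          have := QuotientGroup.mk_out_eq_mul R g⁻¹
          obtain ⟨r, hr⟩ := this
          exact ⟨r, hr⟩
        refine ⟨(((g⁻¹ : G) : G ⧸ R), ⟨⟨(r : G)⁻¹ * (g * z * g⁻¹) * r, mul_mem (mul_mem (inv_mem r.2) hg) r.2⟩, ?_⟩), ?_⟩
        · intro h9
          have h10 : (r : G)⁻¹ * (g * z * g⁻¹) * r = 1 := congrArg Subtype.val h9
          apply hz
          have h11 : g * z * g⁻¹ = 1 := by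
            have : g * z * g⁻¹ = r * ((r : G)⁻¹ * (g * z * g⁻¹) * r) * (r : G)⁻¹ := by group
            rw [this, h10]
            group
          have : z = g⁻¹ * (g * z * g⁻¹) * g := by group
          rw [this, h11]
          group
        · rw [hr]
          simp only
          group
      choose f hf using h8
      have h9 : Nat.card {z : G // z ≠ 1} ≤ Nat.card ((G ⧸ R) × {r : R // r ≠ 1}) := by
        refine Nat.card_le_card_of_injective (fun z => f z.1 z.2) fun z z' hz => ?_
        apply Subtype.ext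
        rw [← hf z.1 z.2, ← hf z'.1 z'.2]
        rw [show f z.1 z.2 = f z'.1 z'.2 from hz]
      have hsub : ∀ (H : Type _) [Group H] [Finite H], Nat.card {z : H // z ≠ 1} = Nat.card H - 1 := by
        intro H _ _
        classical
        have : Fintype H := Fintype.ofFinite H
        rw [Nat.card_eq_fintype_card, Nat.card_eq_fintype_card]
        exact Set.card_ne_eq (1 : H)
      rw [Nat.card_prod, hsub G, hsub R] at h9
      have h10 : Nat.card (G ⧸ R) = R.index := rfl
      rw [h10] at h9
      omega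
    have h8 := R.index_mul_card
    have h9 : 2 ≤ R.index := by
      have h10 : R.index ≠ 1 := fun h => hne (Subgroup.index_eq_one.1 h)
      have h11 : R.index ≠ 0 := Subgroup.index_ne_zero_of_finite
      omega
    have h10 : 0 < Nat.card R := Nat.card_pos
    obtain ⟨c, hc⟩ : ∃ c, Nat.card R = c + 1 := ⟨Nat.card R - 1, by omega⟩
    rw [hc, Nat.add_sub_cancel] at h7
    rw [hc] at h8
    nlinarith
  intro u hu
  rw [mem_center_iff]
  intro g
  have h3 : g ∈ centralizer ((Q : Subgroup G) : Set G) := h2 ▸ mem_top g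
  exact (mem_centralizer_iff.1 h3 u hu).symm

/-- If `C` is normal of index prime to `p` and all elements of `C` have class size prime to `p`, then the Sylow
`p`-subgroups of `G` lie in `C` and centralise `C`. -/
theorem commute_of_forall [Finite G] {p : ℕ} [Fact p.Prime] (C : Subgroup G) [C.Normal] (hC : ¬ p ∣ C.index)
    (h : ∀ z ∈ C, ¬ p ∣ (centralizer ({z} : Set G)).index) (Q : Sylow p G) :
    (Q : Subgroup G) ≤ C ∧ ∀ u ∈ Q, ∀ z ∈ C, u * z = z * u := by
  have hQC := le_of_not_dvd_index C hC Q
  refine ⟨hQC, ?_⟩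
  have h1 : ∀ z : C, ¬ p ∣ (centralizer ({z} : Set C)).index := by
    intro z hd
    refine h z z.2 (dvd_trans ?_ (relIndex_dvd (centralizer ({(z : G)} : Set G)) C))
    have : centralizer ({z} : Set C) = (centralizer ({(z : G)} : Set G)).subgroupOf C := by
      ext g
      rw [mem_subgroupOf, mem_centralizer_singleton_iff, mem_centralizer_singleton_iff]
      exact Subtype.ext_iff
    rw [this] at hd
    exact hd
  let Q' : Sylow p C := Q.subtype hQC
  have h2 := le_center_of_forall h1 Q'
  intro u hu z hz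
  have h3 : (⟨u, hQC hu⟩ : C) ∈ Q' := by
    show (⟨u, hQC hu⟩ : C) ∈ (Q : Subgroup G).subgroupOf C
    rwa [mem_subgroupOf]
  exact (congrArg Subtype.val (mem_center_iff.1 (h2 h3) ⟨z, hz⟩)).symm

end Cfsg.Agent.H735.PqCount
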