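import Cfsg.Agent.H735.PqRed
import Cfsg.Prelude.Def_Solvable
import Cfsg.Agent.S0144

/-!
# S4939: the inputs S4938 and S4307 (helper735)

* `fitting_quot` : `F(G / C_G(N)) = 1` for a non-abelian minimal normal subgroup `N`;
* `pSolvable_of_length` : the conclusion of S4307 gives `p`-solvability and `q`-solvability;
* `main` : S4939 from S4938 (for `G / C_G(N)`), S4307 (for `C_G(N)`) and the strong vanishing elements of `N`.
-/

set_option autoImplicit false

namespace Cfsg.Agent.H735.PqEnd

open Subgroup Cfsg Cfsg.Agent.H713 Cfsg.Agent.H735.PqCount Cfsg.Agent.H735.PqVan Cfsg.Agent.H735.PqRed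

universe u

variable {G : Type u} [Group G]

theorem fitting_quot [Finite G] (N : Subgroup G) [hN : N.Normal] 
    (hNmin : ∀ K : Subgroup G, K.Normal → K ≤ N → K = ⊥ ∨ K = N) (hNna : ¬ IsMulCommutative N) :
    fittingSubgroup (G ⧸ centralizer (N : Set G)) = ⊥ := by
  rw [fittingSubgroup, sSup_eq_bot]
  rintro K ⟨hK, hKnil⟩
  set π := QuotientGroup.mk' (centralizer (N : Set G)) with hπ
  have hπs : Function.Surjective π := QuotientGroup.mk'_surjective _
  have hKt : (K.comap π).Normal := inferInstance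
  rcases hNmin (N ⊓ K.comap π) inferInstance inf_le_left with h | h
  · -- `K` centralises `N`
    rw [eq_bot_iff]
    intro k hk
    obtain ⟨g, rfl⟩ := hπs k
    rw [mem_bot]
    refine (QuotientGroup.eq_one_iff g).2 ?_
    rw [mem_centralizer_iff]
    intro n hn
    have h1 : g * n * g⁻¹ * n⁻¹ ∈ N ⊓ K.comap π := by
      refine Subgroup.mem_inf.2 ⟨N.mul_mem (hN.conj_mem n hn g) (N.inv_mem hn), ?_⟩
      have h2 : g * n * g⁻¹ * n⁻¹ = g * (n * g⁻¹ * n⁻¹) := by group
      rw [h2]
      exact (K.comap π).mul_mem hk (hKt.conj_mem _ ((K.comap π).inv_mem hk) n)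
    rw [h, mem_bot, mul_inv_eq_one, mul_inv_eq_iff_eq_mul] at h1
    exact h1.symm
  · -- `N` is nilpotent
    exfalso
    have hle : N ≤ K.comap π := by
      have h0 : N ⊓ K.comap π ≤ K.comap π := inf_le_right
      rwa [h] at h0
    have hNC := inf_centralizer_eq_bot N hNmin hNna
    let f : N →* K := (π.comp N.subtype).codRestrict K fun n => hle n.2
    have hf : Function.Injective f := by
      rw [← MonoidHom.ker_eq_bot_iff, eq_bot_iff]
      intro n hn
      have h1 : π (n : G) = 1 := congrArg Subtype.val (MonoidHom.mem_ker.1 hn)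
      have h2 : (n : G) ∈ N ⊓ centralizer (N : Set G) :=
        Subgroup.mem_inf.2 ⟨n.2, (QuotientGroup.eq_one_iff (n : G)).1 h1⟩
      rw [hNC, mem_bot] at h2
      exact mem_bot.2 (Subtype.ext h2)
    have hnil : Group.IsNilpotent N := Subgroup.isNilpotent_of_ker_le_center f (by
      rw [(MonoidHom.ker_eq_bot_iff f).2 hf]
      exact bot_le)
    have hNnt : Nontrivial N := by
      by_contra hcon
      rw [not_nontrivial_iff_subsingleton] at hcon
      exact hNna ⟨⟨fun a b => Subsingleton.elim _ _⟩⟩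
    have hZ : center N ≠ ⊥ := Group.IsNilpotent.center_ne_bot _
    have hZn : ((center N).map N.subtype).Normal := inferInstance
    rcases hNmin _ hZn (map_subtype_le _) with h1 | h1
    · exact hZ ((Subgroup.map_eq_bot_iff_of_injective _ N.subtype_injective).1 h1)
    · apply hNna
      refine ⟨⟨fun a b => ?_⟩⟩
      have h2 : (a : G) ∈ (center N).map N.subtype := by rw [h1]; exact a.2
      obtain ⟨a', ha', h3⟩ := h2
      have h4 : a' = a := Subtype.ext h3
      subst h4
      exact (mem_center_iff.1 ha' b).symm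

/-- The conclusion of S4307 gives `r`-solvability for `r = p` and `r = q`. -/
theorem pSolvable_of_length [Finite G] {p q r : ℕ} [hp : Fact p.Prime] [hq : Fact q.Prime] [hr : Fact r.Prime]
    (hpq : p ≠ q)
    (K L : Subgroup G) (hK : K.Normal) (hL : L.Normal) (hKL : K ≤ L) (h1 : ¬ r ∣ Nat.card K) (h2 : ¬ r ∣ L.index)
    (h3 : ∀ s : ℕ, s.Prime → s ∣ K.relIndex L → s = p ∨ s = q) : IsPSolvable r G := by
  have hcop : ∀ {n : ℕ}, ¬ r ∣ n → n.Coprime r := fun h => ((Nat.Prime.coprime_iff_not_dvd hr.out).2 h).symm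
  refine Cfsg.Agent.Lib.PSolvable.IsPSolvable_of_extension r K
    (Cfsg.Agent.PLocal.PSolvable.isPSolvable_of_coprime (hcop h1)) ?_
  have hLn : (L.map (QuotientGroup.mk' K)).Normal := hL.map _ (QuotientGroup.mk'_surjective K)
  refine Cfsg.Agent.Lib.PSolvable.IsPSolvable_of_extension r (L.map (QuotientGroup.mk' K)) ?_ ?_
  · -- `L / K` is solvable by Burnside
    have hc : Nat.card (L.map (QuotientGroup.mk' K)) = K.relIndex L := by
      have h5 : Nat.card (L.map (QuotientGroup.mk' K)) = (⊥ : Subgroup (G ⧸ K)).relIndex (L.map (QuotientGroup.mk' K)) := by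
        rw [Subgroup.relIndex_bot_left]
      have h6 : (⊥ : Subgroup (G ⧸ K)) = K.map (QuotientGroup.mk' K) := by
        rw [eq_comm, Subgroup.map_eq_bot_iff, QuotientGroup.ker_mk']
      rw [h5, h6, Subgroup.relIndex_map_map, QuotientGroup.ker_mk', sup_idem, sup_eq_left.2 hKL]
    have hn0 : K.relIndex L ≠ 0 := by
      rw [← hc]
      exact Nat.card_pos.ne'
    have hfac : K.relIndex L = p ^ (K.relIndex L).factorization p * q ^ (K.relIndex L).factorization q := by
      conv_lhs => rw [← Nat.prod_factorization_pow_eq_self hn0]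
      rw [Finsupp.prod, ← Finset.prod_pair (f := fun s => s ^ (K.relIndex L).factorization s) hpq]
      refine Finset.prod_subset ?_ ?_
      · intro s hs
        rw [Nat.support_factorization, Nat.mem_primeFactors] at hs
        rcases h3 s hs.1 hs.2.1 with rfl | rfl <;> simp
      · intro s _ hs
        rw [Finsupp.notMem_support_iff] at hs
        rw [hs, pow_zero]
    have hsol : Group.IsSolvable (L.map (QuotientGroup.mk' K)) :=
      Cfsg.Agent.S0144.result p q _ _ hp.out hq.out (hc.trans hfac)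
    exact Cfsg.Agent.Lib.PSolvable.IsPSolvable_of_solvable r
  · refine Cfsg.Agent.PLocal.PSolvable.isPSolvable_of_coprime (hcop ?_)
    intro hd
    apply h2
    have h4 : (L.map (QuotientGroup.mk' K)).index ∣ L.index :=
      index_map_dvd _ (QuotientGroup.mk'_surjective K)
    exact hd.trans h4

/-- **S4939 from its inputs.** -/
theorem main [Finite G] {p q : ℕ} [hp : Fact p.Prime] [hq : Fact q.Prime] (hpq : p ≠ q) (N : Subgroup G)
    [N.Normal] (hNmin : ∀ K : Subgroup G, K.Normal → K ≤ N → K = ⊥ ∨ K = N) (hNna : ¬ IsMulCommutative N)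
    (hno : HypPQ p q G)
    (hpV : ∃ g : G, p ∣ (centralizer ({g} : Set G)).index) (hqV : ∃ g : G, q ∣ (centralizer ({g} : Set G)).index)
    (h4938 : fittingSubgroup (G ⧸ centralizer (N : Set G)) = ⊥ →
      p ∣ Nat.card (G ⧸ centralizer (N : Set G)) → q ∣ Nat.card (G ⧸ centralizer (N : Set G)) →
      ∃ g : G ⧸ centralizer (N : Set G), (∃ χ : IrrCharacter (G ⧸ centralizer (N : Set G)),
        (χ : G ⧸ centralizer (N : Set G) → ℂ) g = 0) ∧
        p * q ∣ (centralizer ({g} : Set (G ⧸ centralizer (N : Set G)))).index)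
    (hA1 : ∀ r : ℕ, r.Prime → r ∣ Nat.card (G ⧸ centralizer (N : Set G)) →
      ∃ x ∈ N, (∀ z ∈ centralizer (N : Set G), Van G (x * z)) ∧ r ∣ (centralizer ({x} : Set G)).index)
    (h4307 : (∃ z : centralizer (N : Set G), p ∣ (centralizer ({z} : Set (centralizer (N : Set G)))).index) →
      (∃ z : centralizer (N : Set G), q ∣ (centralizer ({z} : Set (centralizer (N : Set G)))).index) →
      (∀ z : centralizer (N : Set G), ¬ p * q ∣ (centralizer ({z} : Set (centralizer (N : Set G)))).index) →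
      ∃ K L : Subgroup (centralizer (N : Set G)), K.Normal ∧ L.Normal ∧ K ≤ L ∧ ¬ p ∣ Nat.card K ∧
        ¬ q ∣ Nat.card K ∧ ¬ p ∣ L.index ∧ ¬ q ∣ L.index ∧ ∀ r : ℕ, r.Prime → r ∣ K.relIndex L → r = p ∨ r = q) :
    IsPSolvable p G ∧ IsPSolvable q G := by
  refine Cfsg.Agent.H735.PqRed.main hpq N hNmin hNna hno hpV hqV ?_ (hA1 p hp.out) (hA1 q hq.out) ?_ ?_
  · intro h1 h2
    obtain ⟨g, hg, hd⟩ := h4938 (fitting_quot N hNmin hNna) h1 h2
    obtain ⟨x, rfl⟩ := QuotientGroup.mk'_surjective (centralizer (N : Set G)) g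
    refine hno x (Van.of_surjective (QuotientGroup.mk' _) (QuotientGroup.mk'_surjective _) hg) (hd.trans ?_)
    have h4 : (centralizer ({x} : Set G)).map (QuotientGroup.mk' (centralizer (N : Set G))) ≤
        centralizer ({QuotientGroup.mk' (centralizer (N : Set G)) x} : Set (G ⧸ centralizer (N : Set G))) := by
      rintro _ ⟨k, hk, rfl⟩
      have hk' := mem_centralizer_singleton_iff.1 hk
      rw [mem_centralizer_singleton_iff, ← map_mul, ← map_mul, hk']
    exact (index_dvd_of_le h4).trans (index_map_dvd _ (QuotientGroup.mk'_surjective _))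
  · -- some prime divides `|G : C|`
    have h1 : Nat.card (G ⧸ centralizer (N : Set G)) ≠ 1 := by
      intro h1
      apply hNna
      refine ⟨⟨fun a b => Subtype.ext ?_⟩⟩
      have h2 : centralizer (N : Set G) = ⊤ := Subgroup.index_eq_one.1 h1
      have h3 : (a : G) ∈ centralizer (N : Set G) := h2 ▸ mem_top _
      exact (mem_centralizer_iff.1 h3 (b : G) b.2).symm
    obtain ⟨r, hr, hrd⟩ := Nat.exists_prime_and_dvd h1
    obtain ⟨x, hx, hxv, -⟩ := hA1 r hr hrd
    exact ⟨x, hx, hxv⟩
  · intro h1 h2 h3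
    obtain ⟨K, L, hK, hL, hKL, h4, h5, h6, h7, h8⟩ := h4307 h1 h2 h3
    exact ⟨pSolvable_of_length hpq K L hK hL hKL h4 h6 h8, pSolvable_of_length hpq K L hK hL hKL h5 h7 h8⟩

end Cfsg.Agent.H735.PqEnd
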