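import Cfsg.Agent.H735.PqVan

/-!
# Reduction of S4939 (helper735)

`main` : a finite group `G` with a non-abelian minimal normal subgroup `N`, `C = C_G(N)`, in which no vanishing class
size is divisible by `p * q`, is `p`-solvable and `q`-solvable, provided that

* `p`, `q` do not both divide `|G : C|` (S4938 for `G / C`);
* if `p` divides `|G : C|` some `x ∈ N` with all `x z` (`z ∈ C`) vanishing has class size divisible by `p`, the
  same for `q`, and there is at least one such `x`;
* the theorem on class sizes (S4307) for `C`.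
-/

set_option autoImplicit false

namespace Cfsg.Agent.H735.PqRed

open Subgroup Cfsg Cfsg.Agent.H713 Cfsg.Agent.H735.PqCount Cfsg.Agent.H735.PqVan
open scoped Pointwise

universe u

variable {G : Type u} [Group G]

theorem index_sub_dvd [Finite G] (C : Subgroup G) [C.Normal] (z : C) :
    (centralizer ({z} : Set C)).index ∣ (centralizer ({(z : G)} : Set G)).index := by
  refine dvd_trans ?_ (relIndex_dvd (centralizer ({(z : G)} : Set G)) C)
  have : centralizer ({z} : Set C) = (centralizer ({(z : G)} : Set G)).subgroupOf C := by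
    ext g
    rw [mem_subgroupOf, mem_centralizer_singleton_iff, mem_centralizer_singleton_iff]
    exact Subtype.ext_iff
  rw [this]
  exact dvd_rfl

/-- A Sylow subgroup centralising all Sylow subgroups is normal. -/
theorem normal_of_commute [Finite G] {p : ℕ} [Fact p.Prime] (Q : Sylow p G)
    (h : ∀ R : Sylow p G, ∀ u ∈ Q, ∀ z ∈ R, u * z = z * u) : (Q : Subgroup G).Normal := by
  have hsub : ∀ R : Sylow p G, R = Q := by
    intro R
    have h1 : (R : Subgroup G) ≤ normalizer ((Q : Subgroup G) : Set G) := by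
      intro z hz
      rw [mem_normalizer_iff]
      intro u
      constructor
      · intro hu
        rw [← h R u hu z hz, mul_inv_cancel_right]
        exact hu
      · intro hu
        have h2 := h R _ hu z hz
        have h3 : u = z⁻¹ * (z * u * z⁻¹) * z := by group
        rw [h3, mul_assoc, h2, inv_mul_cancel_left]
        exact hu
    have h2 : IsPGroup p ((R : Subgroup G) ⊔ (Q : Subgroup G) : Subgroup G) :=
      IsPGroup.to_sup_of_normal_right' R.isPGroup' Q.isPGroup' h1
    have h3 : ((R : Subgroup G) ⊔ (Q : Subgroup G) : Subgroup G) = Q := Q.is_maximal' h2 le_sup_right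
    have h4 : ((R : Subgroup G) ⊔ (Q : Subgroup G) : Subgroup G) = R := R.is_maximal' h2 le_sup_left
    exact Sylow.ext (h4.symm.trans h3)
  constructor
  intro u hu g
  have h1 : g • Q = Q := hsub _
  rw [← h1]
  show g * u * g⁻¹ ∈ (MulAut.conj g • (Q : Subgroup G) : Subgroup G)
  rw [Subgroup.mem_pointwise_smul_iff_inv_smul_mem]
  have hu2 : u ∈ (Q : Subgroup G) := hu
  simpa [MulAut.smul_def, mul_assoc] using hu2

theorem normal_sylow_of_forall [Finite G] {p : ℕ} [Fact p.Prime] (C : Subgroup G) [C.Normal] (hC : ¬ p ∣ C.index)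
    (h : ∀ z : C, ¬ p ∣ (centralizer ({z} : Set C)).index) (Q : Sylow p G) : (Q : Subgroup G).Normal := by
  have hQC := le_of_not_dvd_index C hC Q
  let Q' : Sylow p C := Q.subtype hQC
  have h2 := le_center_of_forall h Q'
  refine normal_of_commute Q fun R u hu z hz => ?_
  have hz' : z ∈ C := le_of_not_dvd_index C hC R hz
  have h3 : (⟨u, hQC hu⟩ : C) ∈ Q' := by
    show (⟨u, hQC hu⟩ : C) ∈ (Q : Subgroup G).subgroupOf C
    rwa [mem_subgroupOf]
  exact (congrArg Subtype.val (mem_center_iff.1 (h2 h3) ⟨z, hz'⟩)).symm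

/-- The centralizer of a product of elements of `N` and `C`. -/
theorem centralizer_mul_le (N C : Subgroup G) [hN : N.Normal] [hC : C.Normal] (hNC : N ⊓ C = ⊥) {x z : G}
    (hx : x ∈ N) (hz : z ∈ C) : centralizer ({x * z} : Set G) ≤ centralizer ({x} : Set G) ∧
      centralizer ({x * z} : Set G) ≤ centralizer ({z} : Set G) := by
  have key : ∀ g ∈ centralizer ({x * z} : Set G), x⁻¹ * (g * x * g⁻¹) = 1 ∧ z * (g * z * g⁻¹)⁻¹ = 1 := by
    intro g hg
    have h1 : g * (x * z) = (x * z) * g := mem_centralizer_singleton_iff.1 hg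
    have h2 : x⁻¹ * (g * x * g⁻¹) = z * (g * z * g⁻¹)⁻¹ := by
      have h3 : (g * x * g⁻¹) * (g * z * g⁻¹) = x * z := by
        have : (g * x * g⁻¹) * (g * z * g⁻¹) = g * (x * z) * g⁻¹ := by group
        rw [this, h1]
        group
      rw [inv_mul_eq_iff_eq_mul, ← mul_assoc, eq_mul_inv_iff_mul_eq]
      exact h3
    have h4 : x⁻¹ * (g * x * g⁻¹) ∈ N ⊓ C := by
      refine Subgroup.mem_inf.2 ⟨N.mul_mem (N.inv_mem hx) (hN.conj_mem x hx g), ?_⟩
      rw [h2]
      exact C.mul_mem hz (C.inv_mem (hC.conj_mem z hz g))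
    rw [hNC, mem_bot] at h4
    exact ⟨h4, h2 ▸ h4⟩
  constructor
  · intro g hg
    have h1 := inv_mul_eq_one.1 (key g hg).1
    rw [mem_centralizer_singleton_iff]
    rw [eq_mul_inv_iff_mul_eq] at h1
    exact h1.symm
  · intro g hg
    have h1 := mul_inv_eq_one.1 (key g hg).2
    rw [mem_centralizer_singleton_iff]
    rw [eq_mul_inv_iff_mul_eq] at h1
    exact h1.symm

theorem inf_centralizer_eq_bot (N : Subgroup G) [hN : N.Normal]
    (hNmin : ∀ K : Subgroup G, K.Normal → K ≤ N → K = ⊥ ∨ K = N) (hNna : ¬ IsMulCommutative N) :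
    N ⊓ centralizer (N : Set G) = ⊥ := by
  rcases hNmin (N ⊓ centralizer (N : Set G)) inferInstance inf_le_left with h | h
  · exact h
  · exfalso
    apply hNna
    refine ⟨⟨fun a b => Subtype.ext ?_⟩⟩
    have h1 : (a : G) ∈ N ⊓ centralizer (N : Set G) := by rw [h]; exact a.2
    exact (mem_centralizer_iff.1 h1.2 (b : G) b.2).symm

/-- One half of the reduction: `p` divides `|G : C|`, `q` does not. -/
theorem case_two [Finite G] {p q : ℕ} [hp : Fact p.Prime] [hq : Fact q.Prime] (hpq : p ≠ q) (N : Subgroup G)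
    [N.Normal] (hNC : N ⊓ centralizer (N : Set G) = ⊥) (hno : HypPQ p q G)
    (hqV : ∃ g : G, q ∣ (centralizer ({g} : Set G)).index) (hqC : ¬ q ∣ (centralizer (N : Set G)).index)
    (hx : ∃ x ∈ N, (∀ z ∈ centralizer (N : Set G), Van G (x * z)) ∧ p ∣ (centralizer ({x} : Set G)).index) :
    IsPSolvable p G ∧ IsPSolvable q G := by
  obtain ⟨x, hxN, hxv, hxp⟩ := hx
  obtain ⟨Q⟩ : Nonempty (Sylow q G) := inferInstance
  refine pSolvable_of_normal_sylow hpq Q ?_ hno hqV
  refine normal_sylow_of_forall (centralizer (N : Set G)) hqC (fun z hd => ?_) Q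
  have h1 := centralizer_mul_le N (centralizer (N : Set G)) hNC hxN z.2
  exact hno.not_both hp.out hq.out hpq (hxv z z.2) (hxp.trans (index_dvd_of_le h1.1))
    ((hd.trans (index_sub_dvd _ z)).trans (index_dvd_of_le h1.2))

/-- **Reduction of S4939.** -/
theorem main [Finite G] {p q : ℕ} [hp : Fact p.Prime] [hq : Fact q.Prime] (hpq : p ≠ q) (N : Subgroup G)
    [N.Normal] (hNmin : ∀ K : Subgroup G, K.Normal → K ≤ N → K = ⊥ ∨ K = N) (hNna : ¬ IsMulCommutative N)
    (hno : HypPQ p q G)
    (hpV : ∃ g : G, p ∣ (centralizer ({g} : Set G)).index) (hqV : ∃ g : G, q ∣ (centralizer ({g} : Set G)).index)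
    (hA2 : p ∣ (centralizer (N : Set G)).index → q ∣ (centralizer (N : Set G)).index → False)
    (hA1p : p ∣ (centralizer (N : Set G)).index →
      ∃ x ∈ N, (∀ z ∈ centralizer (N : Set G), Van G (x * z)) ∧ p ∣ (centralizer ({x} : Set G)).index)
    (hA1q : q ∣ (centralizer (N : Set G)).index →
      ∃ x ∈ N, (∀ z ∈ centralizer (N : Set G), Van G (x * z)) ∧ q ∣ (centralizer ({x} : Set G)).index)
    (hA0 : ∃ x ∈ N, ∀ z ∈ centralizer (N : Set G), Van G (x * z))
    (hA3 : (∃ z : centralizer (N : Set G), p ∣ (centralizer ({z} : Set (centralizer (N : Set G)))).index) →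
      (∃ z : centralizer (N : Set G), q ∣ (centralizer ({z} : Set (centralizer (N : Set G)))).index) →
      (∀ z : centralizer (N : Set G), ¬ p * q ∣ (centralizer ({z} : Set (centralizer (N : Set G)))).index) →
      IsPSolvable p (centralizer (N : Set G)) ∧ IsPSolvable q (centralizer (N : Set G))) :
    IsPSolvable p G ∧ IsPSolvable q G := by
  have hNC := inf_centralizer_eq_bot N hNmin hNna
  by_cases hpC : p ∣ (centralizer (N : Set G)).index
  · by_cases hqC : q ∣ (centralizer (N : Set G)).index
    · exact (hA2 hpC hqC).elim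
    · exact case_two hpq N hNC hno hqV hqC (hA1p hpC)
  · by_cases hqC : q ∣ (centralizer (N : Set G)).index
    · exact (case_two hpq.symm N hNC hno.symm hpV hpC (hA1q hqC)).symm
    · obtain ⟨x, hxN, hxv⟩ := hA0
      have hpq' : ∀ z : centralizer (N : Set G),
          ¬ p * q ∣ (centralizer ({z} : Set (centralizer (N : Set G)))).index := by
        intro z hd
        have h1 := centralizer_mul_le N (centralizer (N : Set G)) hNC hxN z.2
        exact hno _ (hxv z z.2) ((hd.trans (index_sub_dvd _ z)).trans (index_dvd_of_le h1.2))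
      by_cases h1 : ∃ z : centralizer (N : Set G), p ∣ (centralizer ({z} : Set (centralizer (N : Set G)))).index
      · by_cases h2 : ∃ z : centralizer (N : Set G), q ∣ (centralizer ({z} : Set (centralizer (N : Set G)))).index
        · obtain ⟨h3, h4⟩ := hA3 h1 h2 hpq'
          have hcop : ∀ {r : ℕ}, r.Prime → ¬ r ∣ (centralizer (N : Set G)).index →
              (Nat.card (G ⧸ centralizer (N : Set G))).Coprime r := by
            intro r hr h
            exact ((Nat.Prime.coprime_iff_not_dvd hr).2 h).symm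
          exact ⟨Cfsg.Agent.Lib.PSolvable.IsPSolvable_of_extension p _ h3
              (Cfsg.Agent.PLocal.PSolvable.isPSolvable_of_coprime (hcop hp.out hpC)),
            Cfsg.Agent.Lib.PSolvable.IsPSolvable_of_extension q _ h4
              (Cfsg.Agent.PLocal.PSolvable.isPSolvable_of_coprime (hcop hq.out hqC))⟩
        · push Not at h2
          obtain ⟨Q⟩ : Nonempty (Sylow q G) := inferInstance
          exact pSolvable_of_normal_sylow hpq Q (normal_sylow_of_forall _ hqC h2 Q) hno hqV
      · push Not at h1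
        obtain ⟨P⟩ : Nonempty (Sylow p G) := inferInstance
        exact (pSolvable_of_normal_sylow hpq.symm P (normal_sylow_of_forall _ hpC h1 P) hno.symm hpV).symm

end Cfsg.Agent.H735.PqRed
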