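import Cfsg.Agent.H716.RegCent

/-!
# Regular unipotent elements and two primes (helper735)

`S : Sys Δ G r`, `G` finite and faithful, `Δ` thick, `B / U` abelian.

* `exists_panel_subgroup` : for a prime `p ≠ r` dividing `|G|` there are a panel `i` and a proper subgroup `A` of `U c`
  containing all the elements trivial on the panel `i`, such that a regular element `u` without `U c`-conjugates in
  `A` is not centralised by any Sylow `p`-subgroup;
* `exists_reg_of_subgroups` : two such conditions can be satisfied simultaneously;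
* `exists_reg_two` : for two primes a regular element which is not centralised by a Sylow `p`- nor by a Sylow
  `q`-subgroup.
-/

set_option autoImplicit false
set_option linter.unusedSectionVars false

namespace Cfsg.Agent.H735.RegPair

open Cfsg.Agent.Tits.Core Cfsg.Agent.Tits.Core.Bldg Cfsg.Agent.Tits Cfsg.Agent.Tits.Opp
open Cfsg.Agent.FixBN (Sys HasSplit Split)
open Cfsg.Agent.H716.RegUni

variable {I : Type*} {M : CoxeterMatrix I} {W : Type*} [Group W] {cs : CoxeterSystem M W} {C : Type*}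
variable {Δ : Bldg cs C} {G : Type*} [Group G] [MulAction G C] {r : ℕ}

local prefix:100 "s" => cs.simple
local prefix:100 "ℓ" => cs.length

variable (S : Sys Δ G r)

include S in
theorem conj_mem_U {c : C} {g : G} (hgc : g • c = c) {u : G} (hu : u ∈ S.U c) : g * u * g⁻¹ ∈ S.U c := by
  have h1 : (S.U c).map (MulAut.conj g).toMonoidHom ≤ S.U c := by
    refine S.max c _ ((S.isP c).map _) ?_
    rintro _ ⟨v, hv, rfl⟩
    simp only [MulEquiv.coe_toMonoidHom, MulAut.conj_apply]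
    rw [mul_smul, mul_smul]
    have : g⁻¹ • c = c := by rw [inv_smul_eq_iff, hgc]
    rw [this, S.fix c v hv, hgc]
  exact h1 ⟨u, hu, by simp⟩

variable [F : OppRes.Cox cs] [Finite W] [Finite I]

/-- the elements of `U c` acting trivially on the panel `i` modulo commutators with `P` -/
def panSub (S : Sys Δ G r) (c : C) (i : I) (P : Subgroup G) : Subgroup ↥(S.U c) where
  carrier := {u | ∀ g ∈ P, TrivOn Δ c i ((u : G)⁻¹ * (g * u * g⁻¹))}
  one_mem' := fun g hg => by
    simp only [Subgroup.coe_one, inv_one, mul_one, mul_inv_cancel]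
    exact fun y _ => one_smul G y
  mul_mem' := fun {u v} hu hv g hg => by
    have h1 := ((hu g hg).conj S (S.fix c v v.2)).mul (hv g hg)
    have h2 : ((u * v : ↥(S.U c)) : G)⁻¹ * (g * ((u * v : ↥(S.U c)) : G) * g⁻¹) =
        (v : G)⁻¹ * ((u : G)⁻¹ * (g * u * g⁻¹)) * v * ((v : G)⁻¹ * (g * v * g⁻¹)) := by
      rw [Subgroup.coe_mul]; group
    rw [h2]
    exact h1
  inv_mem' := fun {u} hu g hg => by
    have h0 : (u : G)⁻¹ • c = c := by rw [inv_smul_eq_iff, S.fix c u u.2]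
    have h1 := (hu g hg).inv.conj S h0
    have h2 : ((u⁻¹ : ↥(S.U c)) : G)⁻¹ * (g * ((u⁻¹ : ↥(S.U c)) : G) * g⁻¹) =
        ((u : G)⁻¹)⁻¹ * ((u : G)⁻¹ * (g * u * g⁻¹))⁻¹ * (u : G)⁻¹ := by
      rw [Subgroup.coe_inv]; group
    rw [h2]
    exact h1

theorem mem_panSub_of_triv {c : C} {i : I} {P : Subgroup G} (hPc : ∀ g ∈ P, g • c = c) {u : ↥(S.U c)}
    (hu : TrivOn Δ c i (u : G)) : u ∈ panSub S c i P := by
  intro g hg
  have hgc := hPc g hg
  have h0 : g⁻¹ • c = c := by rw [inv_smul_eq_iff, hgc]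
  have h1 := hu.inv.mul (hu.conj S h0)
  rwa [inv_inv] at h1

/-- If `panSub` is everything then `P` is trivial on the panel. -/
theorem triv_of_panSub_eq_top {c : C} (P : Subgroup G) (hPc : ∀ g ∈ P, g • c = c) {d : C} (hcd : Δ.Opp c d)
    (hPd : ∀ g ∈ P, g • d = d) (i : I) (hA : panSub S c i P = ⊤) {g : G} (hg : g ∈ P) : TrivOn Δ c i g := by
  have hlt : ℓ (s i * Δ.δ c d) < ℓ (Δ.δ c d) := by
    have h1 := F.len_mul_w0 (s i)
    rw [cs.length_simple] at h1
    have h2 : Δ.δ c d = w0 cs := hcd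
    rw [h2]
    omega
  obtain ⟨y0, hy0, hy0d, -⟩ := exists_first hlt
  have hPy : ∀ g ∈ P, g • y0 = y0 := fun g hg => smul_first S hlt hy0 hy0d (hPc g hg) (hPd g hg)
  intro y hy
  rcases hy with rfl | hy
  · exact hPc g hg
  · obtain ⟨x, hx, hxy, -⟩ := exists_root S hy0 hy
    have h1 : (⟨x, hx⟩ : ↥(S.U c)) ∈ panSub S c i P := by rw [hA]; trivial
    have h2 : (x⁻¹ * (g * x * g⁻¹)) • y0 = y0 := h1 g hg y0 (Or.inr hy0)
    have h3 : g⁻¹ • y0 = y0 := by rw [inv_smul_eq_iff, hPy g hg]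
    rw [mul_smul, mul_smul, h3, mul_smul, hxy, inv_smul_eq_iff, hxy] at h2
    exact h2

/-- A regular element centralised by some Sylow `p`-subgroup has a conjugate in `panSub`. -/
theorem exists_conj_mem_panSub [Finite G] {p : ℕ} [hp : Fact p.Prime] {c : C}
    (hab : ∀ x y : G, x • c = c → y • c = c → x * y * x⁻¹ * y⁻¹ ∈ S.U c)
    (P : Sylow p G) (hPc : ∀ g ∈ P, g • c = c) {d : C} (hcd : Δ.Opp c d) (hPd : ∀ g ∈ P, g • d = d)
    (i : I) {u : G} (hur : Reg S c u) (P' : Sylow p G) (hP' : ∀ g ∈ P', g * u = u * g) :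
    ∃ v : ↥(S.U c), v⁻¹ * ⟨u, hur.1⟩ * v ∈ panSub S c i P := by
  classical
  have hUc : ∀ u ∈ S.U c, u • c = c := S.fix c
  have hP'c : ∀ g ∈ P', g • c = c := fun g hg => smul_eq_of_comm S hur (hP' g hg)
  -- conjugacy in the stabiliser of `c`
  let B := MulAction.stabilizer G c
  have h1 : (P : Subgroup G) ≤ B := fun g hg => hPc g hg
  have h2 : (P' : Subgroup G) ≤ B := fun g hg => hP'c g hg
  obtain ⟨b, hb'⟩ := MulAction.exists_smul_eq ↥B (P.subtype h1) (P'.subtype h2)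
  have hbc : (b : G) • c = c := b.2
  have h3 : ∀ g ∈ P, (b : G) * g * (b : G)⁻¹ ∈ P' := by
    intro g hg
    have h4 : (⟨g, h1 hg⟩ : ↥B) ∈ (P.subtype h1 : Subgroup ↥B) := by
      rw [Sylow.coe_subtype, Subgroup.mem_subgroupOf]
      exact hg
    have h5 : b * ⟨g, h1 hg⟩ * b⁻¹ ∈ ((b • P.subtype h1 : Sylow p ↥B) : Subgroup ↥B) := by
      rw [Sylow.coe_subgroup_smul]
      exact Subgroup.smul_mem_pointwise_smul _ (MulAut.conj b) _ h4
    rw [hb', Sylow.coe_subtype, Subgroup.mem_subgroupOf] at h5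
    exact h5
  -- `b = v h`
  have hbd : Δ.Opp c ((b : G) • d) := by
    change Δ.δ c ((b : G) • d) = w0 cs
    conv_lhs => rw [← hbc]
    rw [S.iso]
    exact hcd
  obtain ⟨v, hv, hvd⟩ := S.trans c d ((b : G) • d) hcd hbd
  have hhc : (v⁻¹ * (b : G)) • c = c := by
    rw [mul_smul, hbc, inv_smul_eq_iff, hUc v hv]
  have hhd : (v⁻¹ * (b : G)) • d = d := by
    rw [mul_smul, ← hvd, inv_smul_smul]
  have h4 : ∀ g ∈ P, (v⁻¹ * (b : G)) * g * (v⁻¹ * (b : G))⁻¹ = g := by
    intro g hg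
    have h5 := hab (v⁻¹ * (b : G)) g hhc (hPc g hg)
    have h6 : ((v⁻¹ * (b : G)) * g * (v⁻¹ * (b : G))⁻¹ * g⁻¹) • d = d := by
      have h7 : g⁻¹ • d = d := by rw [inv_smul_eq_iff, hPd g hg]
      have h8 : (v⁻¹ * (b : G))⁻¹ • d = d := by rw [inv_smul_eq_iff, hhd]
      rw [mul_smul, mul_smul, mul_smul, h7, h8, hPd g hg, hhd]
    have h7 := S.free c d hcd _ h5 h6
    exact mul_inv_eq_one.1 h7
  have h5 : ∀ g ∈ P, g * (v⁻¹ * u * v) = (v⁻¹ * u * v) * g := by
    intro g hg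
    have h6 : v * g * v⁻¹ ∈ P' := by
      have h7 := h3 g hg
      have h8 : (b : G) * g * (b : G)⁻¹ = v * ((v⁻¹ * (b : G)) * g * (v⁻¹ * (b : G))⁻¹) * v⁻¹ := by group
      rw [h8, h4 g hg] at h7
      exact h7
    have h7 := hP' _ h6
    calc g * (v⁻¹ * u * v) = v⁻¹ * ((v * g * v⁻¹) * u) * v := by group
      _ = v⁻¹ * (u * (v * g * v⁻¹)) * v := by rw [h7]
      _ = _ := by group
  refine ⟨⟨v, hv⟩, fun g hg => ?_⟩
  have h7 := h5 g hg
  have h8 : (((⟨v, hv⟩ : ↥(S.U c))⁻¹ * ⟨u, hur.1⟩ * ⟨v, hv⟩ : ↥(S.U c)) : G) = v⁻¹ * u * v := rfl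
  rw [h8]
  have h9 : (v⁻¹ * u * v)⁻¹ * (g * (v⁻¹ * u * v) * g⁻¹) = 1 := by
    rw [h7]; group
  rw [h9]
  exact fun y _ => one_smul G y

/-- **The condition for one prime.** -/
theorem exists_panel_subgroup [Finite G] [Nonempty I] {p : ℕ} [hp : Fact p.Prime] [hr : Fact r.Prime] (hpr : p ≠ r)
    (hth : Δ.Thick) (c : C) (hfaith : ∀ g : G, (∀ x : C, g • x = x) → g = 1)
    (hab : ∀ x y : G, x • c = c → y • c = c → x * y * x⁻¹ * y⁻¹ ∈ S.U c) (hd : p ∣ Nat.card G) :
    ∃ (i : I) (A : Subgroup ↥(S.U c)), A ≠ ⊤ ∧ (∀ u : ↥(S.U c), TrivOn Δ c i (u : G) → u ∈ A) ∧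
      ∀ (u : G) (hu : Reg S c u), (∀ v : ↥(S.U c), v⁻¹ * ⟨u, hu.1⟩ * v ∉ A) →
        ∀ P : Sylow p G, ∃ g ∈ P, g * u ≠ u * g := by
  classical
  by_cases hex : ∃ P : Sylow p G, ∀ g ∈ P, g • c = c
  · obtain ⟨P, hPc⟩ := hex
    obtain ⟨d, hcd, hPd⟩ := exists_opp_fixed S hpr P P.isPGroup' hPc
    have hi : ∃ i : I, panSub S c i P ≠ ⊤ := by
      by_contra hcon
      push Not at hcon
      have hbot : (P : Subgroup G) = ⊥ := by
        rw [Subgroup.eq_bot_iff_forall]
        intro g hg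
        apply hfaith
        intro x
        exact Rigid.rigid (Δ := Δ) (Δ' := Δ) hth (J := Set.univ) (c := c) (d := d) (φ := fun y => g • y)
          (ψ := fun y => y) (fun a _ b _ => S.iso g a b) (fun a _ b _ => rfl)
          (fun j _ y hy => triv_of_panSub_eq_top S P hPc hcd hPd j (hcon j) hg y hy) hcd (hPd g hg) x
          (by change Δ.δ c x ∈ WJ cs Set.univ; rw [OppRes.WJ_univ]; trivial)
      have h1 := P.dvd_card_of_dvd_card hd
      rw [hbot, Subgroup.card_bot] at h1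
      exact hp.1.one_lt.ne' (Nat.dvd_one.1 h1)
    obtain ⟨i, hi⟩ := hi
    refine ⟨i, panSub S c i P, hi, fun u hu => mem_panSub_of_triv S hPc hu, fun u hu hv P' => ?_⟩
    by_contra hcon
    push Not at hcon
    obtain ⟨v, hv'⟩ := exists_conj_mem_panSub S hab P hPc hcd hPd i hu P' hcon
    exact hv v hv'
  · push Not at hex
    obtain ⟨i⟩ := (inferInstance : Nonempty I)
    let A : Subgroup ↥(S.U c) :=
      { carrier := {u | TrivOn Δ c i (u : G)}
        one_mem' := fun y _ => one_smul G y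
        mul_mem' := fun {u v} hu hv => TrivOn.mul hu hv
        inv_mem' := fun {u} hu => TrivOn.inv hu }
    refine ⟨i, A, ?_, fun u hu => hu, fun u hu _ P => ?_⟩
    · intro hA
      obtain ⟨a, b, hne, ha, hb⟩ := hth c i
      obtain ⟨x, hx, hxa, -⟩ := exists_root S ha hb
      have h1 : (⟨x, hx⟩ : ↥(S.U c)) ∈ A := by rw [hA]; trivial
      have h2 : x • a = a := h1 a (Or.inr ha)
      rw [hxa] at h2
      exact hne h2.symm
    · by_contra hcon
      push Not at hcon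
      obtain ⟨g, hg, hgc⟩ := hex P
      exact hgc (smul_eq_of_comm S hu (hcon g hg))

/-- A proper subgroup of a finite `r`-group lies in a proper normal subgroup. -/
theorem exists_normal_ge {U : Type*} [Group U] [Finite U] {r : ℕ} [hr : Fact r.Prime] (hU : IsPGroup r U)
    {A : Subgroup U} (hA : A ≠ ⊤) : ∃ N : Subgroup U, A ≤ N ∧ N ≠ ⊤ ∧ N.Normal := by
  obtain ⟨N, hN, hAN⟩ := (eq_top_or_exists_le_coatom A).resolve_left hA
  have := hU.isNilpotent
  exact ⟨N, hAN, hN.1, Subgroup.NormalizerCondition.normal_of_coatom N Group.normalizerCondition_of_isNilpotent hN⟩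

/-- A group is not the union of two proper subgroups. -/
theorem exists_notMem_two {U : Type*} [Group U] {A B : Subgroup U} (hA : A ≠ ⊤) (hB : B ≠ ⊤) :
    ∃ x, x ∉ A ∧ x ∉ B := by
  by_contra hcon
  push Not at hcon
  obtain ⟨a, ha⟩ : ∃ a, a ∉ A := by
    by_contra h
    push Not at h
    exact hA ((Subgroup.eq_top_iff' A).2 h)
  obtain ⟨b, hb⟩ : ∃ b, b ∉ B := by
    by_contra h
    push Not at h
    exact hB ((Subgroup.eq_top_iff' B).2 h)
  have haB := hcon a ha
  have hbA : b ∈ A := by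
    by_contra h
    exact hb (hcon b h)
  have hab : a * b ∉ A := fun h => ha (by
    have := mul_mem h (inv_mem hbA)
    rwa [mul_inv_cancel_right] at this)
  refine hb ?_
  have := mul_mem (inv_mem haB) (hcon _ hab)
  rwa [inv_mul_cancel_left] at this

/-- **Regular elements outside (the conjugates of) two proper subgroups which contain the kernel of a panel.** -/
theorem exists_reg_of_subgroups [Finite G] [hr : Fact r.Prime] (hth : Δ.Thick) (c : C) {i j : I}
    {A B : Subgroup ↥(S.U c)} (hA : A ≠ ⊤) (hB : B ≠ ⊤)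
    (hVA : ∀ u : ↥(S.U c), TrivOn Δ c i (u : G) → u ∈ A)
    (hVB : ∀ u : ↥(S.U c), TrivOn Δ c j (u : G) → u ∈ B) :
    ∃ (u : G) (hu : Reg S c u), (∀ v : ↥(S.U c), v⁻¹ * ⟨u, hu.1⟩ * v ∉ A) ∧
      ∀ v : ↥(S.U c), v⁻¹ * ⟨u, hu.1⟩ * v ∉ B := by
  classical
  obtain ⟨N, hAN, hN, hNn⟩ := exists_normal_ge (S.isP c) hA
  obtain ⟨L, hBL, hL, hLn⟩ := exists_normal_ge (S.isP c) hB
  obtain ⟨x, hxN, hxL⟩ := exists_notMem_two hN hL
  -- `x` moves chambers of the two panels
  have hmove : ∀ {k : I} {D : Subgroup ↥(S.U c)}, (∀ u : ↥(S.U c), TrivOn Δ c k (u : G) → u ∈ D) → x ∉ D →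
      ∃ e, Δ.δ c e = s k ∧ (x : G) • e ≠ e := by
    intro k D hD hx
    by_contra hcon
    push Not at hcon
    refine hx (hD x ?_)
    rintro y (rfl | hy)
    · exact S.fix y x x.2
    · exact hcon y hy
  obtain ⟨ei, hei, hxei⟩ := hmove hVA (fun h => hxN (hAN h))
  obtain ⟨ej, hej, hxej⟩ := hmove hVB (fun h => hxL (hBL h))
  have hxs : ∀ {k : I} {e : C}, Δ.δ c e = s k → Δ.δ c ((x : G) • e) = s k := by
    intro k e he
    have h1 := S.iso (x : G) c e
    rw [S.fix c x x.2] at h1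
    rw [h1, he]
  choose a b hab' ha hb using fun j => hth c j
  let f : I → C := fun k => if k = i then ei else if k = j then ej else a k
  let f' : I → C := fun k => if k = i then (x : G) • ei else if k = j then (x : G) • ej else b k
  have hf : ∀ k, Δ.δ c (f k) = s k := by
    intro k
    by_cases h1 : k = i
    · simp only [f, if_pos h1]; rw [hei, h1]
    · by_cases h2 : k = j
      · simp only [f, if_neg h1, if_pos h2]; rw [hej, h2]
      · simp only [f, if_neg h1, if_neg h2]; exact ha k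
  have hf' : ∀ k, Δ.δ c (f' k) = s k := by
    intro k
    by_cases h1 : k = i
    · simp only [f', if_pos h1]; rw [hxs hei, h1]
    · by_cases h2 : k = j
      · simp only [f', if_neg h1, if_pos h2]; rw [hxs hej, h2]
      · simp only [f', if_neg h1, if_neg h2]; exact hb k
  have hff' : ∀ k, f' k ≠ f k := by
    intro k
    by_cases h1 : k = i
    · simp only [f, f', if_pos h1]; exact hxei
    · by_cases h2 : k = j
      · simp only [f, f', if_neg h1, if_pos h2]; exact hxej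
      · simp only [f, f', if_neg h1, if_neg h2]; exact (hab' k).symm
  obtain ⟨u, hu, hue⟩ := exists_prescribed S c f f' hf hf'
  have hur : Reg S c u := ⟨hu, fun k => ⟨f k, hf k, by rw [hue k]; exact hff' k⟩⟩
  -- `u` and `x` agree on the two panels
  have hagree : ∀ {k : I} {e : C}, Δ.δ c e = s k → u • e = (x : G) • e → TrivOn Δ c k ((x : G)⁻¹ * u) := by
    intro k e he hue'
    refine S.pan c e k he _ (mul_mem (inv_mem x.2) hu) ?_
    rw [mul_smul, hue', inv_smul_smul]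
  have h1 : TrivOn Δ c i ((x : G)⁻¹ * u) := hagree hei (by
    have := hue i
    simpa only [f, f', if_pos rfl] using this)
  have h2 : TrivOn Δ c j ((x : G)⁻¹ * u) := by
    by_cases hij : j = i
    · rw [hij]; exact h1
    · exact hagree hej (by
        have := hue j
        simpa only [f, f', if_neg hij, if_true] using this)
  have key : ∀ {D E : Subgroup ↥(S.U c)} {k : I}, D ≤ E → E.Normal → x ∉ E →
      (∀ u : ↥(S.U c), TrivOn Δ c k (u : G) → u ∈ D) → TrivOn Δ c k ((x : G)⁻¹ * u) →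
      ∀ v : ↥(S.U c), v⁻¹ * ⟨u, hu⟩ * v ∉ D := by
    intro D E k hDE hE hx hV ht v hmem
    have h3 : (⟨u, hu⟩ : ↥(S.U c)) ∈ E := by
      have h4 := hE.conj_mem _ (hDE hmem) v
      have h5 : v * (v⁻¹ * ⟨u, hu⟩ * v) * v⁻¹ = (⟨u, hu⟩ : ↥(S.U c)) := by group
      rwa [h5] at h4
    have h4 : x⁻¹ * (⟨u, hu⟩ : ↥(S.U c)) ∈ E := hDE (hV _ ht)
    refine hx ?_
    have h5 : x = ⟨u, hu⟩ * (x⁻¹ * (⟨u, hu⟩ : ↥(S.U c)))⁻¹ := by group
    rw [h5]
    exact mul_mem h3 (inv_mem h4)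
  exact ⟨u, hur, key hAN hNn hxN hVA h1, key hBL hLn hxL hVB h2⟩

/-- **Two primes.** -/
theorem exists_reg_two [Finite G] [Nonempty I] {p q : ℕ} [hp : Fact p.Prime] [hq : Fact q.Prime] [hr : Fact r.Prime]
    (hpr : p ≠ r) (hqr : q ≠ r)
    (hth : Δ.Thick) (c : C) (hfaith : ∀ g : G, (∀ x : C, g • x = x) → g = 1)
    (hab : ∀ x y : G, x • c = c → y • c = c → x * y * x⁻¹ * y⁻¹ ∈ S.U c) (hdp : p ∣ Nat.card G)
    (hdq : q ∣ Nat.card G) :
    ∃ u, Reg S c u ∧ (∀ P : Sylow p G, ∃ g ∈ P, g * u ≠ u * g) ∧ ∀ P : Sylow q G, ∃ g ∈ P, g * u ≠ u * g := by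
  obtain ⟨i, A, hA, hVA, hpA⟩ := exists_panel_subgroup S hpr hth c hfaith hab hdp
  obtain ⟨j, B, hB, hVB, hqB⟩ := exists_panel_subgroup S hqr hth c hfaith hab hdq
  obtain ⟨u, hu, h1, h2⟩ := exists_reg_of_subgroups S hth c hA hB hVA hVB
  exact ⟨u, hu, hpA u hu h1, hqB u hu h2⟩

end Cfsg.Agent.H735.RegPair
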